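import Cfsg.Agent.SPOR.T10.ApiG

/-!
Elementary abelian subgroups acting on `Q̄` (finite check; notes/t10/cnt.py).
-/

set_option autoImplicit false
set_option maxRecDepth 100000

namespace CL.T10

open CL.K CL.CG CL.F2M CL.F24 CL.LX CL.MSS Subgroup Cfsg
open CL.J4P (Kv)

attribute [local irreducible] gcode vcode

namespace CntF

/-- clique search: `R` chosen vertices, `P` candidates -/
noncomputable def clq (N : ℕ → ℕ) (k : ℕ) (ok : ℕ → Bool) (fuel : ℕ) : ℕ → ℕ → Bool :=
  Nat.rec (motive := fun _ => ℕ → ℕ → Bool) (fun _ _ => false) (fun _ ih R P =>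
    force R fun R => force P fun P => blt (sumLt (bit P) 88) k || (ok R ||
      force (Nat.log2 (Nat.xor P R)) fun x => ih (Nat.lor R (Nat.pow 2 x)) (Nat.land P (N x)) &&
        ih R (Nat.xor P (Nat.land P (Nat.pow 2 x))))) fuel

theorem clq_succ (N : ℕ → ℕ) (k : ℕ) (ok : ℕ → Bool) (n R P : ℕ) : clq N k ok (n + 1) R P =
    force R fun R => force P fun P => blt (sumLt (bit P) 88) k || (ok R ||
      force (Nat.log2 (Nat.xor P R)) fun x => clq N k ok n (Nat.lor R (Nat.pow 2 x)) (Nat.land P (N x)) &&
        clq N k ok n R (Nat.xor P (Nat.land P (Nat.pow 2 x)))) := rfl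

theorem clq_sound {S : ℕ → Prop} [DecidablePred S] {N : ℕ → ℕ} {k : ℕ} {ok : ℕ → Bool}
    (hN : ∀ i j, S i → S j → (N i).testBit j = true) (hk : k ≤ ((Finset.range 88).filter S).card) (fuel : ℕ) :
    ∀ R P, (∀ i, R.testBit i = true → S i) → (∀ i, S i → P.testBit i = true) → clq N k ok fuel R P = true →
      ∃ R, ok R = true ∧ ∀ i, R.testBit i = true → S i := by
  induction fuel with
  | zero => exact fun _ _ _ _ h => absurd h Bool.false_ne_true
  | succ n ih =>
    intro R P hR hP h
    rw [clq_succ, force_eq, force_eq, force_eq, Bool.or_eq_true, Bool.or_eq_true, Bool.and_eq_true] at h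
    rcases h with h | h | h
    · have := lt_of_blt h
      rw [sumLt_eq, ← cnt_eq_sum] at this
      exact absurd (hk.trans (Finset.card_le_card (Finset.monotone_filter_right _ fun i _ => hP i))) this.not_ge
    · exact ⟨R, h, hR⟩
    generalize Nat.log2 (Nat.xor P R) = x at h
    by_cases hx : S x
    · refine ih _ _ (fun i hi => ?_) (fun i hi => ?_) h.1
      · change (R ||| 2 ^ x).testBit i = true at hi
        rw [Nat.testBit_or, Bool.or_eq_true, Nat.testBit_two_pow, decide_eq_true_eq] at hi
        exact hi.elim (hR i) fun e => e ▸ hx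
      · change (P &&& N x).testBit i = true
        rw [Nat.testBit_and, hP i hi, hN x i hx hi]; rfl
    · refine ih _ _ hR (fun i hi => ?_) h.2
      change (P ^^^ P &&& 2 ^ x).testBit i = true
      rw [Nat.testBit_xor, Nat.testBit_and, hP i hi, Nat.testBit_two_pow_of_ne fun e : x = i => hx (e ▸ hi)]; rfl

/-- the 88 solutions of `x ^ 2 = 1` in `SB` -/
def iv (i : ℕ) : ℕ := fld 144 0xffffffffffffffffffffffffffffffffffff 0x8e355538e10408204102301500e0040020018e351430c10408204102301400c0040020018a255528a10408204102201500a0040020018a2514208104082041022014008004002001820c71aaa1c708204102003102a007002001820c30a281c7082041020030028007002001820c7128a18608204102003100a006002001820c302081860820410200300080060020018c054038010008004002301500e0040020018c050030010008004002301400c00400200188054028010008004002201500a004002001880500200100080040022014008004002001800c40a801c008004002003102a007002001800c00a001c0080040020030028007002001800c4028018008004002003100a006002001800c00200180080040020030008006002001186df7efb8e30c304100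603703b023003001186db6e388e30c30410060360380230030011c7df77df8a20c304100703701f0220030011c7db671c8a20c304100703601c022003001145451fbe8610c304100501103e021003001145410f7d8610c304100501003d0210030011044516db8200c304100401101b0200030011044106188200c3041004010018020003001180dc0ec08c00c004000603703b023003001180d80e008c00c00400060360380230030011c0dc07c08800c004000703701f0220030011c0d807008800c004000703601c022003001140440f808400c004000501103e021003001140400f408400c004000501003d0210030011004406c08000c004000401101b0200030011004006008000c00400040100180200030018e3df7bef1c708204102303702f0070020018e3db6b6d1c708204102303602d0070020018a2df728a18608204102203700a0060020018a2db6208186082041022036008006002001820451aaa14508204102001102a005002001820410a2814508204102001002800500200186145138e10408204102101100e00400200186141030c10408204102101000c0040020018c0dc0bc01c008004002303702f0070020018c0d80b401c008004002303602d007002001880dc028018008004002203700a006002001880d80200180080040022036008006002001800440a8014008004002001102a0050020018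00400a0014008004002001002800500200184044038010008004002101100e00400200184040030010008004002101000c0040020011c7df7bef8e308204100703702f0230020011c7db6b6d8e308204100703602d023002001186df728a8a208204100603700a022002001186db62088a2082041006036008022002001145451bef86108204100501102f021002001145410b6d86108204100501002d02100200110445128a82008204100401100a0200020011044102088200820410040100080200020011c0dc0bc08c008004000703702f0230020011c0d80b408c008004000703602d023002001180dc028088008004000603700a022002001180d80200880080040006036008022002001140440bc084008004000501102f021002001140400b4084008004000501002d02100200110044028080008004000401100a020002001100400200800080040004010008020002001861451fbe1450c304102101103e005003001861410f7d1450c304102101003d005003001820451efb1450c304102001103b005003001820410e381450c30410200100380050030018614517df1040c304102101101f00400300186141071c1040c304102101001c0040030018204516db1040c304102001101b0040030018204106181040c3041020010018004003001840440f801400c004002101103e005003001840400f401400c0040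02101003d005003001800440ec01400c004002001103b005003001800400e001400c00400200100380050030018404407c01000c004002101101f0040030018404007001000c004002101001c0040030018004406c01000c004002001101b0040030018004006001000c0040020010018004003001861451bef14508204102101102f005002001861410b6d14508204102101002d005002001840440bc014008004002101102f005002001840400b4014008004002101002d00500200182045128a10408204102001100a00400200182041020810408204102001000800400200180044028010008004002001100a004002001800400200100080040020010008004002001 i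
/-- commuting pairs -/
def N1 (i : ℕ) : ℕ := fld 88 0xffffffffffffffffffffff 0xfcfc0000c3c3000000000ffcfc0000c3c3000000000ff3f300003333000000000ff3f300003333000000000fcfcf0000cccc000000000fcfcf0000cccc000000000f3f3f00003c3c000000000f3f3f00003c3c000000000ffcfc0000c3c3000000000ffcfc0000c3c3000000000ff3f300003333000000000ff3f300003333000000000fcfcf0000cccc000000000fcfcf0000cccc000000000f3f3f00003c3c000000000f3f3f00003c3c000000000f0000f0f00000f0f03c3cff0000f0f00000f0f03c3cff0000f0f00000f0f03c3cff0000f0f00000f0f03c3cff00000f0f00000f0fc3c3ff00000f0f00000f0fc3c3ff00000f0f00000f0fc3c3ff00000f0f00000f0fc3c3ff0000f0f00000f0f03c3cff0000f0f00000f0f03c3cff0000f0f00000f0f03c3cff0000f0f00000f0f03c3cff00000f0f00000f0fc3c3ff00000f0f00000f0fc3c3ff00000f0f00000f0fc3c3ff00000f0f00000f0fc3c3ffcccc0000f0f0ffff0000ffcccc0000f0f0ffff0000ff33330000f0f0ffff0000ff33330000f0f0ffff0000ff0f0f00000f0f0000ffffff0f0f00000f0f0000fffffff0f000000f0f0000fffffff0f000000f0f0000ffffffcccc0000f0f0ffff0000ffcccc0000f0f0ffff0000ff33330000f0f0ffff0000f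f33330000f0f0ffff0000ff0f0f00000f0f0000ffffff0f0f00000f0f0000fffffff0f000000f0f0000fffffff0f000000f0f0000ffffff0000f0f0f0f0ffff3c3cff0000f0f0f0f0ffff3c3cff0000f0f0f0f0ffff3c3cff0000f0f0f0f0ffff3c3cff00000f0ff0f0ffffc3c3ff00000f0ff0f0ffffc3c3ff00000f0ff0f0ffffc3c3ff00000f0ff0f0ffffc3c3ff0000f0f0f0f0ffff3c3cff0000f0f0f0f0ffff3c3cff0000f0f0f0f0ffff3c3cff0000f0f0f0f0ffff3c3cff00000f0ff0f0ffffc3c3ff00000f0ff0f0ffffc3c3ff00000f0ff0f0ffffc3c3ff00000f0ff0f0ffffc3c3ff00000f0f0f0f0f0fffffff00000f0f0f0f0f0fffffff0000f0f00f0ff0f0ffffff0000f0f00f0ff0f0ffffff0000f0f00f0ff0f0ffffff0000f0f00f0ff0f0ffffff00000f0f0f0f0f0fffffff00000f0f0f0f0f0fffffff00000f0f0f0f0f0fffffff00000f0f0f0f0f0fffffff0000f0f00f0ff0f0ffffff0000f0f00f0ff0f0ffffff0000f0f00f0ff0f0ffffff0000f0f00f0ff0f0ffffff00000f0f0f0f0f0fffffff00000f0f0f0f0f0fffffff0000ffffffffffffffffff0000ffffffffffffffffff0000ffffffffffffffffff0000ffffffffffffffffffffffffffffffffffffffffffffffffffffffffffffffffffffffffffffffffffffffffffffffffffffffffff i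
/-- commuting pairs with many common fixed vectors -/
def N2 (i : ℕ) : ℕ := fld 88 0xffffffffffffffffffffff 0x8c000000c00000000001004c000000c000000000010023000000300000000001001300000030000000000100c8000000c0000000000100c4000000c000000000010032000000300000000001003100000030000000000100000000000000000000000000000000000000000000000000000000000000000000000000000000000000000000000000000000000000000000000000000000000000000000000000000000000000000000000000000000000000000000000000000000000000000000000000000000000000000000000000000000000000000000000000000000000000000000000000000000000000000000000000000000000000000000000000000000000000000000000000000000000000000000000000000000000000000000000000000000000000000000000000000000000000000000000000000000000000000000000000000000000000000000000000000000000000000000000000cc00000080000000000100cc0000004000000000010033000000200000000001003300000010000000000100000000000b0000003331000000000007000000cc3100000000000e0000000f3100000000000d000000f031000000000000000000000000000000000000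000000000000000000000000000000000000000000000000000000000000000000000000000000000000000000000000000000000000000000000000000000000000000000000000000000000000000000000000000000000000000000000000000000000000000000000000000000000000000000000000000000000000000000000000000000000000000000000000000000000000000000000000000000000000000000000000000000000000000000000000000000000000000000000000000000000000000000000000000000000000000000000000000000000000000000000000000000000000000000000000000000000000000000000005000000e923000000000005000000d623000000000009000000b9130000000000090000007613000000000006000000ad130000000000060000005e1300000000000a000000572300000000000a000000ab230000000000000000000000000000000000000000000000000000000f000000c32100000000000f0000003c1100000000000000000000000000000000000000000000000000000000000000ff0300ff000000ff000000ff33 i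
/-- the index of `tS m` -/
def ix (m : ℕ) : ℕ := fld 7 127 0x23c64e980008b1000000012a4000000000000000000000000000000000000000000000000000000008708000468800000020c000010a00001fbe3e780007af00000000e9c0000000000000000000000000000000000000000000000000000000076e800036680000001cb80000c9800000006ed800000000000001ab4000000000000000000000af5aad4000000000029d2000000000028d02e58a940e199b2264889062c018200000005eb8000000000000016ac0000000000000000000009f3a6cc000000000025ca000000000024c81e3868c0a115aa162848852a0080 m
/-- test of a bit -/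
def tb (P i : ℕ) : Bool := Nat.beq (bit P i) 1

theorem tb_eq (P i : ℕ) : tb P i = P.testBit i := by
  rw [tb, bit_eq]; cases P.testBit i <;> rfl

theorem run (E : Subgroup GL12) {P k : ℕ} {N : ℕ → ℕ} {ok : ℕ → Bool}
    (h0 : ∀ g ∈ E, ∃ i < 88, P.testBit i = true ∧ gcode g = iv i)
    (hN : ∀ i < 88, ∀ j < 88, P.testBit i = true → P.testBit j = true → ∀ g ∈ E, ∀ h ∈ E, gcode g = iv i →
      gcode h = iv j → (N i).testBit j = true) (hk : k ≤ Nat.card E) (hc : clq N k ok 100 0 P = true) :
    ∃ R, ok R = true ∧ ∀ i, R.testBit i = true → ∃ g ∈ E, gcode g = iv i := by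
  classical
  choose! f f1 f2 f3 using h0
  obtain ⟨R, h1, h2⟩ := clq_sound (S := fun i => i < 88 ∧ P.testBit i = true ∧ ∃ g ∈ E, gcode g = iv i)
    (fun i j ⟨a, b, g, c, d⟩ ⟨a', b', g', c', d'⟩ => hN i a j a' b b' g c g' c' d d') (hk.trans (by
      rw [← Nat.card_eq_finsetCard]
      exact Nat.card_le_card_of_injective (fun g : E => ⟨f g, Finset.mem_filter.2
        ⟨Finset.mem_range.2 (f1 g g.2), f1 g g.2, f2 g g.2, g, g.2, f3 g g.2⟩⟩) fun a b e =>
          Subtype.ext (C12.inj (by rw [f3 a a.2, f3 b b.2, show f a = f b from congrArg Subtype.val e]))))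
    100 0 P (by simp) (fun i h => h.2.1) hc
  exact ⟨R, h1, fun i h => (h2 i h).2.2⟩

theorem idx {H : Subgroup GL12} {t : ℕ → ℕ} {n P : ℕ} (h : Complete gcode H n t)
    (c : allLt (fun m => force (t m) fun x => !Nat.beq (mm x x) c1 ||
      (blt (ix m) 88 && (tb P (ix m) && Nat.beq x (iv (ix m))))) n = true) {g : GL12} (hg : g ∈ H)
    (h2 : g * g = 1) : ∃ i < 88, P.testBit i = true ∧ gcode g = iv i := by
  obtain ⟨m, hm, e⟩ := h g hg
  have := allLt_iff.1 c m hm
  rw [force_eq, ← e, C12.map_mul, h2, C12.map_one, Nat.beq_refl, tb_eq] at this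
  simp only [Bool.not_true, Bool.false_or, Bool.and_eq_true] at this
  exact ⟨_, lt_of_blt this.1, this.2.1, eq_of_beq this.2.2⟩

theorem idxS {g : GL12} (hg : g ∈ SB) (h2 : g * g = 1) :
    ∃ i < 88, (2 ^ 88 - 1).testBit i = true ∧ gcode g = iv i := idx ApiG.compl_S (by decide +kernel) hg h2

theorem idxT {g : GL12} (hg : g ∈ TB) (h2 : g * g = 1) :
    ∃ i < 88, (0xffff0000ffff0000ffffff).testBit i = true ∧ gcode g = iv i :=
  idx ApiG.compl_T (by decide +kernel) hg h2

theorem comm {E : Subgroup GL12} (h2 : ∀ x ∈ E, x * x = 1) {g h : GL12} (hg : g ∈ E) (hh : h ∈ E) :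
    mm (gcode g) (gcode h) = mm (gcode h) (gcode g) := by
  rw [C12.map_mul, C12.map_mul, ← inv_eq_of_mul_eq_one_right (h2 _ (mul_mem hg hh)), mul_inv_rev,
    inv_eq_of_mul_eq_one_right (h2 g hg), inv_eq_of_mul_eq_one_right (h2 h hh)]

theorem nb1 {E : Subgroup GL12} (h2 : ∀ x ∈ E, x * x = 1) (P : ℕ) : ∀ i < 88, ∀ j < 88, P.testBit i = true →
    P.testBit j = true → ∀ g ∈ E, ∀ h ∈ E, gcode g = iv i → gcode h = iv j → (N1 i).testBit j = true := by
  have c : allLt (fun i => force (iv i) fun a => force (N1 i) fun n => allLt (fun j => tb n j ||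
      force (iv j) fun b => !Nat.beq (mm a b) (mm b a)) 88) 88 = true := by decide +kernel
  intro i hi j hj _ _ g hg h hh e e'
  have := allLt_iff.1 c i hi
  rw [force_eq, force_eq] at this
  have := allLt_iff.1 this j hj
  rwa [force_eq, ← e, ← e', comm h2 hg hh, Nat.beq_refl, tb_eq, Bool.not_true, Bool.or_false] at this

/-- `(x + 1)(d + 1) = 0` -/
noncomputable def kil (x d : ℕ) : Bool := Nat.beq (Nat.xor (mm x d) x) (Nat.xor d c1)
/-- the span of `k` vectors contains no common fixed vector -/
noncomputable def sm (d e f k c : ℕ) : Bool := allLt (fun i => Nat.beq i 0 ||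
  force (lc (fld 12 4095 c) k i) fun v => !Nat.beq (ac d v) v || (!Nat.beq (ac e v) v || !Nat.beq (ac f v) v))
    (Nat.pow 2 k)

theorem kil_spec {x d : GL12} (h : kil (gcode x) (gcode d) = true) (v : W) : x • (d • v - v) = d • v - v := by
  have e : (x * d).1 + x.1 = d.1 + (1 : GL12).1 := mcode_injective (by
    have := eq_of_beq h
    rw [C12.map_mul, ← C12.map_one] at this
    unfold gcode at this
    rw [mcode_add, mcode_add]; exact this)
  have s : ∀ a b : W, a - b = a + b := fun a b => by
    rw [sub_eq_add_neg, neg_eq_of_add_eq_zero_right (two_zero b)]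
  rw [s, smul_add, ← mul_smul]
  nth_rw 4 [← one_smul GL12 v]
  simp only [gl_smul, ← Matrix.add_mulVec, e]

/-- the conclusion of `cntF` -/
def Cc (E : Subgroup GL12) : Prop := ∃ d ∈ E, d ≠ 1 ∧ ∃ p : Submodule (ZMod 2) W, (∀ v, d • v - v ∈ p) ∧
  (∀ v, (∀ x ∈ E, x • v = v) → v ∈ p) ∧ Nat.card p * Nat.card E < 4096

theorem concl {E : Subgroup GL12} {d e f : GL12} (hd : d ∈ E) (he : e ∈ E) (hf : f ∈ E) (d1 : d ≠ 1)
    (d2 : d * d = 1) (k2 : kil (gcode e) (gcode d) = true) (k3 : kil (gcode f) (gcode d) = true) {k c : ℕ}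
    (hs : ∀ i < 2 ^ k, sv d (lc (fld 12 4095 c) k i) = lc (fld 12 4095 c) k i →
      sv e (lc (fld 12 4095 c) k i) = lc (fld 12 4095 c) k i →
      sv f (lc (fld 12 4095 c) k i) = lc (fld 12 4095 c) k i → i = 0) (hE : Nat.card E < 2 ^ k) : Cc E := by
  let F : GL12 → Submodule (ZMod 2) W := fun x => LinearMap.eqLocus (Matrix.mulVecLin x.1) LinearMap.id
  have mF : ∀ x v, v ∈ F x ↔ x • v = v := fun x v => Iff.rfl
  have l : ∀ i, lc (fld 12 4095 c) k i < 2 ^ 12 := lc_lt fun j _ => Nat.lt_succ_of_le (fld_le ..)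
  have s : ∀ a b : W, a - b = a + b := fun a b => by
    rw [sub_eq_add_neg, neg_eq_of_add_eq_zero_right (two_zero b)]
  refine ⟨d, hd, d1, F d ⊓ F e ⊓ F f, fun v => ⟨⟨?_, kil_spec k2 v⟩, kil_spec k3 v⟩,
    fun v h => ⟨⟨h d hd, h e he⟩, h f hf⟩, ?_⟩
  · refine (mF _ _).2 ?_
    rw [s, smul_add, ← mul_smul, d2, one_smul, add_comm]
  refine (Nat.mul_lt_mul_of_pos_left hE Nat.card_pos).trans_le ?_
  have := Nat.card_le_card_of_injective (fun x : (F d ⊓ F e ⊓ F f :) × Fin (2 ^ k) =>
      (x.1 : W) + vdec 12 (lc (fld 12 4095 c) k x.2)) fun x y h => by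
    have m : vdec 12 (lc (fld 12 4095 c) k (x.2 ^^^ y.2)) ∈ F d ⊓ F e ⊓ F f := by
      rw [lc_xor, vdec_xor, ← s, show vdec 12 (lc (fld 12 4095 c) k x.2) - _ = (y.1 : W) - x.1 from
        sub_eq_sub_iff_add_eq_add.2 ((add_comm _ _).trans h)]
      exact sub_mem y.1.2 x.1.2
    have t : ∀ g, vdec 12 (lc (fld 12 4095 c) k (x.2 ^^^ y.2)) ∈ F g →
        sv g (lc (fld 12 4095 c) k (x.2 ^^^ y.2)) = lc (fld 12 4095 c) k (x.2 ^^^ y.2) := fun g hg => by
      rw [ApiG.sv_code _ (l _), (mF _ _).1 hg, vcode_vdec (l _)]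
    have e2 : x.2 = y.2 := Fin.ext (Nat.xor_eq_zero_iff.1
      (hs _ (Nat.xor_lt_two_pow x.2.2 y.2.2) (t d m.1.1) (t e m.1.2) (t f m.2)))
    refine Prod.ext (Subtype.ext ?_) e2
    simpa [e2] using h
  simpa using this

theorem sm_spec {d e f k c : ℕ} (h : sm d e f k c = true) : ∀ i < 2 ^ k,
    ac d (lc (fld 12 4095 c) k i) = lc (fld 12 4095 c) k i → ac e (lc (fld 12 4095 c) k i) = lc (fld 12 4095 c) k i →
      ac f (lc (fld 12 4095 c) k i) = lc (fld 12 4095 c) k i → i = 0 := fun i hi a b c => by
  have := allLt_iff.1 h i hi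
  rw [force_eq, a, b, c, Nat.beq_refl] at this
  simpa using this

/-- a pair with `[W, d] ≤ C(e)` and few common fixed vectors -/
noncomputable def good (k : ℕ) (L : List ℕ) (d e : ℕ) : Bool :=
  !Nat.beq d c1 && (kil e d && anyLt (fun t => sm d e e k (lget L t)) L.length)

theorem good_spec {E : Subgroup GL12} {d e : GL12} (hd : d ∈ E) (he : e ∈ E) (d2 : d * d = 1) {k : ℕ} {L : List ℕ}
    (h : good k L (gcode d) (gcode e) = true) (hE : Nat.card E < 2 ^ k) : Cc E := by
  simp only [good, Bool.and_eq_true, anyLt_iff] at h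
  obtain ⟨a, b, t, -, c⟩ := h
  refine concl hd he he (fun e => ?_) d2 b b (sm_spec c) hE
  rw [e, C12.map_one, Nat.beq_refl] at a
  exact absurd a (by decide)

/-- complements to the fixed spaces of involutions -/
def L4 : List ℕ := [0x800400020010, 0x200080008002, 0x400100010004, 0x800200020008, 0x200100008004,
  0x200100080040, 0x400200010008]
/-- complements for pairs -/
def L6 : List ℕ := [0x800200080020008002, 0x200100080008004002, 0x800400200020010008, 0x400200100010008004]

theorem chk4 : allLt (fun i => !tb 0xffff0000ffff0000ffffff i || force (iv i) fun a =>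
    (Nat.beq a c1 || good 4 L4 a a) && (tb 0xff000000ff000000ff33 i || good 6 [0x800400200100080040] a a)) 88 = true := by
  decide +kernel

theorem chk6 : allLt (fun i => !tb 0xff000000ff000000ff33 i || force (iv i) fun a => force (N2 i) fun n =>
    allLt (fun j => !tb 0xff000000ff000000ff33 j || (tb n j || force (iv j) fun b =>
      !Nat.beq (mm a b) (mm b a) || good 6 L6 a b)) 88) 88 = true := by
  decide +kernel

/-- the property of `e32` for a list of elements -/
noncomputable def pe (L : List ℕ) : Bool := allLt2 (fun v => blt v 2 || (!lall (fun i => Nat.beq (ac (iv i) v) v) L ||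
  !lall (fun i => Nat.beq (iv i) c1 || !allLt2 (fun w => !Nat.beq (Nat.xor (ac (iv i) w) w) v) 64 64) L)) 64 64

theorem chkp : lall pe [[2, 1, 60], [2, 1, 56], [2, 1, 4]] = true := by decide +kernel

/-- code of a commutator -/
noncomputable def cm (a b : ℕ) : ℕ := mm (mm (mm a b) (powC mm c1 a 7)) (powC mm c1 b 7)

theorem cm_code {a b : GL12} (ha : F2M.unitB 12 CM 4095 (powC mm c1 (gcode a) 7) (gcode a) = true)
    (hb : F2M.unitB 12 CM 4095 (powC mm c1 (gcode b) 7) (gcode b) = true) :
    gcode (a * b * a⁻¹ * b⁻¹) = cm (gcode a) (gcode b) := by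
  rw [cm, ← code_inv rfl ha, ← code_inv rfl hb, C12.map_mul, C12.map_mul, C12.map_mul]

theorem two {R : Subgroup GL12} {y : GL12}
    (hc : ∀ a ∈ R, ∀ b ∈ R, a * b * a⁻¹ * b⁻¹ = 1 ∨ a * b * a⁻¹ * b⁻¹ = y) (sq : ∀ x ∈ SB, x * x ∈ R) {x : GL12}
    (hx : x ∈ R) {g a b : ℕ} (e : gcode x = g) (ha : a < 256) (hb : b < 256)
    (c : (lall (fun u => F2M.unitB 12 CM 4095 (powC mm c1 u 7) u) [g, mm (tS a) (tS a), mm (tS b) (tS b)] &&
      (!Nat.beq (cm g (mm (tS a) (tS a))) c1 && (!Nat.beq (cm g (mm (tS b) (tS b))) c1 &&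
      !Nat.beq (cm g (mm (tS a) (tS a))) (cm g (mm (tS b) (tS b)))))) = true) : False := by
  obtain ⟨u, hu, eu⟩ := top_tS ha
  obtain ⟨v, hv, ev⟩ := top_tS hb
  rw [← eu, ← ev, ← e, C12.map_mul, C12.map_mul] at c
  simp only [Bool.and_eq_true, lall_iff, List.forall_mem_cons, Bool.not_eq_true'] at c
  obtain ⟨⟨c1, c2, c3, -⟩, c4, c5, c6⟩ := c
  rw [← cm_code c1 c2] at c4 c6
  rw [← cm_code c1 c3] at c5 c6
  rw [← C12.map_one] at c4 c5
  exact ne_of_beq c6 (congrArg _ (((hc x hx _ (sq u hu)).resolve_left fun e => ne_of_beq c4 (congrArg _ e)).trans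
    ((hc x hx _ (sq v hv)).resolve_left fun e => ne_of_beq c5 (congrArg _ e)).symm))

end CntF

open CntF

theorem CntF.rank5' (E : Subgroup GL12) (hE : E ≤ SB) (h2 : ∀ x ∈ E, x * x = 1) : Nat.card E ≤ 32 := by
  by_contra c
  obtain ⟨R, h, -⟩ := run E (ok := fun _ => false) (fun g hg => idxS (hE hg) (h2 g hg)) (nb1 h2 _) (not_le.1 c)
    (by decide +kernel)
  exact absurd h Bool.false_ne_true

/-- PROOF. `E0 = E ⊓ TB` has index `≤ 2`. If `E0 = 1`, `E = ⟨d⟩` with `d` swapping: `C(d) ⊓ Ā2 ≤ Ā2 ⊓ Ā2'` has
dimension `≤ 4`, so `dim C(d) ≤ 10`; take `p = C(d)`. Involutions of `TB` fix 64 or 256 vectors. If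
`|E0| ≤ 4` take `p = C(d)`. In general, with `|E0| = 2 ^ μ` and `m` the least dimension of
`[W, d] + C(E0)`, the pairs `(μ, m)` are (1,6), (1,8), (2,6), (2,8), (3,≤6), (4,≤5), (5,4). Enough: for
`μ ≤ 4` a bound 6 for every subgroup of rank 3 (an element with 64 fixed vectors, or two elements `d, e` with
`(e + 1)(d + 1) = 0` and `p = C(d, e)` of order 64, ..); the only subgroup of rank 5 is `ZB`, `d = a34`,
`p = [W, a34]`. -/
theorem cntF (E : Subgroup GL12) (h2 : ∀ x ∈ E, x * x = 1) (hne : E ≠ ⊥)
    (hi : ∀ x ∈ E, ∀ y ∈ E, x ∈ TB ∨ y ∈ TB ∨ x * y ∈ TB) (hs : ∀ x ∈ E, x ∉ TB → Swp x) :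
    ∃ d ∈ E, d ≠ 1 ∧ ∃ p : Submodule (ZMod 2) W, (∀ v, d • v - v ∈ p) ∧
      (∀ v, (∀ x ∈ E, x • v = v) → v ∈ p) ∧ Nat.card p * Nat.card E < 4096 := by
  change Cc E
  have h0 : ∀ g ∈ E ⊓ TB, g * g = 1 := fun g hg => h2 g hg.1
  have hT : ∀ g ∈ E ⊓ TB, _ := fun g hg => idxT hg.2 (h0 g hg)
  have c2 : Nat.card E ≤ 2 * Nat.card (E ⊓ TB : Subgroup GL12) := by
    by_cases l : E ≤ TB
    · rw [inf_eq_left.2 l]; omega
    obtain ⟨x, hx, hx'⟩ := SetLike.not_le_iff_exists.1 l
    refine card_le_of_cover (t := fun j => x ^ j) fun g hg => ?_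
    by_cases m : g ∈ TB
    · exact ⟨0, two_pos, g, mem_inf.2 ⟨hg, m⟩, by simp⟩
    · exact ⟨1, one_lt_two, x * g, mem_inf.2 ⟨mul_mem hx hg, ((hi x hx g hg).resolve_left hx').resolve_left m⟩,
        by rw [pow_one, ← mul_assoc, h2 x hx, one_mul]⟩
  by_cases b0 : E ⊓ TB = ⊥
  · obtain ⟨d, hd, d1⟩ := (bot_or_exists_ne_one E).resolve_left hne
    have k : kil (gcode d) (gcode d) = true := by
      rw [kil, C12.map_mul, h2 d hd, C12.map_one]
      exact Nat.beq_eq ▸ Nat.xor_comm _ _
    refine concl hd hd hd d1 (h2 d hd) k k (k := 2) (c := 0x100004) (fun i hi e _ _ => ?_)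
      (by rw [b0, card_bot] at c2; omega)
    have t : ∀ i < 4, lc (fld 12 4095 0x100004) 2 i < 4096 ∧ lc (fld 12 4095 0x100004) 2 i &&& 0xe38 = 0 ∧
      (lc (fld 12 4095 0x100004) 2 i &&& 0x71c = 0 → i = 0) := by decide +kernel
    exact (t i hi).2.2 (e ▸ (hs d hd (fun m => d1 (mem_bot.1 (b0.le (mem_inf.2 ⟨hd, m⟩)))) _ (t i hi).1).1
      (t i hi).2.1)
  by_cases b1 : Nat.card (E ⊓ TB : Subgroup GL12) < 8
  · obtain ⟨d, hd, d1⟩ := (bot_or_exists_ne_one _).resolve_left b0
    obtain ⟨i, i1, i2, e⟩ := hT d hd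
    have := allLt_iff.1 chk4 i i1
    rw [force_eq, tb_eq, i2, ← e, ← C12.map_one, ApiG.beq_false fun e => d1 (C12.inj e)] at this
    simp only [Bool.not_true, Bool.false_or, Bool.and_eq_true] at this
    exact good_spec hd.1 hd.1 (h0 d hd) this.1 (by omega)
  by_cases b2 : Nat.card (E ⊓ TB : Subgroup GL12) < 32
  · by_contra hn
    obtain ⟨R, h, -⟩ := run (E ⊓ TB) (P := 0xff000000ff000000ff33) (N := N2) (ok := fun _ => false) (fun g hg => by
      obtain ⟨i, i1, i2, e⟩ := hT g hg
      have := allLt_iff.1 chk4 i i1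
      rw [force_eq, tb_eq, i2, ← e, tb_eq] at this
      simp only [Bool.not_true, Bool.false_or, Bool.and_eq_true, Bool.or_eq_true] at this
      exact ⟨i, i1, this.2.resolve_right fun c => hn (good_spec hg.1 hg.1 (h0 g hg) c (by omega)), e⟩)
      (fun i i1 j j1 i2 j2 g hg k hk e e' => by
        have := allLt_iff.1 chk6 i i1
        rw [force_eq, force_eq, tb_eq, i2, Bool.not_true, Bool.false_or] at this
        have := allLt_iff.1 this j j1
        rw [force_eq, tb_eq, j2, tb_eq, ← e, ← e', comm h0 hg hk, Nat.beq_refl] at this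
        simp only [Bool.not_true, Bool.false_or, Bool.or_eq_true] at this
        exact this.resolve_right fun c => hn (good_spec hg.1 hk.1 (h0 g hg) c (by omega)))
      (not_lt.1 b1) (by decide +kernel)
    exact absurd h Bool.false_ne_true
  obtain ⟨R, h, hR⟩ := run (E ⊓ TB) (ok := fun R => tb R 1 && (tb R 40 && tb R 42)) hT (nb1 h0 _) (not_lt.1 b2)
    (by decide +kernel)
  simp only [tb_eq, Bool.and_eq_true] at h
  obtain ⟨d, hd, e1⟩ := hR _ h.1
  obtain ⟨e, he, e2⟩ := hR _ h.2.1
  obtain ⟨f, hf, e3⟩ := hR _ h.2.2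
  have := rank5' (E ⊓ TB) (inf_le_right.trans le_chain.2.2.2.2.1) h0
  refine concl hd.1 he.1 hf.1 (fun e => ?_) (h0 d hd) (by rw [e1, e2]; decide +kernel) (by rw [e1, e3]; decide +kernel)
    (k := 8) (c := 0x800400200100020010008004) (sm_spec (by rw [e1, e2, e3]; decide +kernel)) (by omega)
  rw [e, C12.map_one] at e1
  exact absurd e1 (by decide +kernel)

/-- `SB` has 2-rank 5 -/
theorem rank5 (E : Subgroup GL12) (hE : E ≤ SB) (h2 : ∀ x ∈ E, x * x = 1) : Nat.card E ≤ 32 :=
  rank5' E hE h2

/-- PROOF. There are four elementary abelian subgroups of order 32 in `SB`; `ZB` fixes only the vector 1, in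
the others some `u ≠ 1` fails the last condition for each fixed vector. -/
theorem e32 (E : Subgroup GL12) (hE : E ≤ SB) (h2 : ∀ x ∈ E, x * x = 1) (hc : 32 ≤ Nat.card E) {v : ℕ}
    (h0 : v ≠ 0) (hf : ∀ u ∈ E, sv u v = v) (hv : ∀ u ∈ E, u ≠ 1 → ∃ w < 4096, sv u w ^^^ w = v) :
    v = 1 := by
  obtain ⟨R, h, hR⟩ := run E (ok := fun R => !lall (fun L => !lall (tb R) L) [[2, 1, 60], [2, 1, 56], [2, 1, 4]])
    (fun g hg => idxS (hE hg) (h2 g hg)) (nb1 h2 _) hc (by decide +kernel)
  rw [Bool.not_eq_true', ← Bool.not_eq_true, lall_iff] at h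
  push Not at h
  obtain ⟨L, hL, h⟩ := h
  have h' : ∀ i ∈ L, ∃ g ∈ E, gcode g = iv i := fun i hi =>
    hR i ((tb_eq R i).symm.trans (lall_iff.1 (by simpa using h) i hi))
  have := allLt2_iff.1 (lall_iff.1 chkp L hL) v (hf 1 (one_mem E) ▸ sv_lt 1 v)
  rw [lall_iff.2 fun i hi => ?_, lall_iff.2 fun i hi => ?_] at this
  · have := lt_of_blt (by simpa using this : blt v 2 = true)
    omega
  · obtain ⟨g, hg, e⟩ := h' i hi
    rw [← e]
    by_cases g1 : g = 1
    · rw [g1, C12.map_one, Nat.beq_refl]; rfl
    obtain ⟨w, hw, e⟩ := hv g hg g1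
    rw [Bool.or_eq_true, Bool.not_eq_true', ← Bool.not_eq_true, allLt2_iff]
    refine .inr fun a => ?_
    have := a w hw
    rw [show Nat.xor (ac (gcode g) w) w = v from e, Nat.beq_refl] at this
    exact absurd this (by decide)
  · obtain ⟨g, hg, e⟩ := h' i hi
    rw [← e, show ac (gcode g) v = v from hf g hg, Nat.beq_refl]

/-- PROOF. A subgroup of index `≤ 2` contains all squares; each of the 15 subgroups of index 2 has at least
four commutators. -/
theorem s8fin (R : Subgroup GL12) (hR : R ≤ SB) {y : GL12}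
    (hc : ∀ a ∈ R, ∀ b ∈ R, a * b * a⁻¹ * b⁻¹ = 1 ∨ a * b * a⁻¹ * b⁻¹ = y) : Nat.card R < 128 := by
  by_contra c
  have i := index_mul_card (R.subgroupOf SB)
  rw [Nat.card_congr (subgroupOfEquivOfLe hR).toEquiv, cards.2.2.2] at i
  have h3 : ∀ x ∈ SB, ∀ y ∈ SB, x ∈ R ∨ y ∈ R ∨ x * y ∈ R := fun x hx y hy => by
    have := Nat.mul_le_mul_left (R.subgroupOf SB).index (not_lt.1 c)
    by_cases e : (R.subgroupOf SB).index = 2
    · have := mul_mem_iff_of_index_two e (a := ⟨x, hx⟩) (b := ⟨y, hy⟩)
      simp only [mem_subgroupOf, coe_mul] at this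
      tauto
    · have : (R.subgroupOf SB).index ≠ 0 := index_ne_zero_of_finite
      exact .inl ((index_eq_one.1 (by omega : (R.subgroupOf SB).index = 1)).ge (mem_top ⟨x, hx⟩))
  have sq : ∀ x ∈ SB, x * x ∈ R := fun x hx => (h3 x hx x hx).elim (fun h => mul_mem h h)
    fun h => h.elim (fun h => mul_mem h h) id
  obtain ⟨x, hx, ex⟩ := top_tS (m := 20) (by norm_num)
  obtain ⟨z, hz, ez⟩ := top_tS (m := 130) (by norm_num)
  rcases h3 x hx z hz with h | h | h
  · exact two hc sq h ex (a := 36) (b := 144) (by norm_num) (by norm_num) (by decide +kernel)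
  · exact two hc sq h ez (a := 20) (b := 144) (by norm_num) (by norm_num) (by decide +kernel)
  · exact two hc sq h (by rw [← C12.map_mul, ex, ez]) (a := 20) (b := 36) (by norm_num) (by norm_num)
      (by decide +kernel)

end CL.T10
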