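import Cfsg.Agent.SPOR.T10.ApiN
import Cfsg.Agent.SOLV.Basic

/-!
Two conjugates of `A` normalising each other's centralisers.
-/

set_option autoImplicit false
set_option maxRecDepth 100000

namespace CL.T10

open CL.K CL.CG CL.F2M CL.F24 CL.LX CL.MSS Subgroup Cfsg
open CL.J4P (Kv)

attribute [local irreducible] gcode vcode

namespace FA

/-- conjugators -/
def CT : ℕ := 0x62d3844000000000000000000000000000000000000000000000000000000018358350000000000000000000000000000000000000000000000000000000060d6a871680c20000000000000000000000000000000c42c308000000000001e861850000000000000000000000000000000000000000000000000000000000000000000000000000000000000000000000000000000000000000000000000000000000000000000000000000000000000000000000000000000000000000000000000000000000000060d6a54000000000000000000000000000000000000000000000000000000018b4c310000000000000000000000000000000000000000000000000000000060d6a071680820000000000000000000000000000000c42c208000000000001e8612500000000000000000000000000000000000000000000000000000000000000000000000000000000000000000000000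00000000000000000000000000000000000000000000000000000000000000000000000000000000000000000000000000000000000000060d6ad00000000000000000000000000000000000000000000000000000000183583400000000000000000000000000000000000000000000000000c5a630e2d38040000000000000000000000000000000000000000000000000310a8c3e861890000000000000000000000000000000000000000000000000000000000000000000000000000000000000000000000000000000000000000000000000000000000000000000000000000000000000000000000000000000000000000000000000000000000000062d2844000000000000000000000000000000000000000000000000000000018b483100000000000000000000000000000000000000000000000000c5a420e2d28040000000000000000000000000000000000000000000000000310a083e845250000000000000000000000000000000000000000000000000000000000000000000000000000000000000000000000000000000000000000000000000000000000000000000000000000000000000000000000000000000000000000000000000000000000000000000000000000000000000000000000000000000000000000000000000000000000000000000000000000000000000000000000000000000000000c1ac3080000031684c200000000000060b6a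d00000018858350000006216a84000001e862850000000000000000000000000000000000000000000000000000000000000000000000000000000000000000000000000000000000000000000000000000000000000000000000000000000000000000000000000000000000000000000000000000000000000000000000000000000000000000000000000000000000000000000000000000000000000000000000000000000000000000000000000000000000000c1ac2080000031684820000000000006216a5400000182d8340000006216a04000001e86225000000000000000000000000000000000000000000000000000000000000000000000000000000000000000000000000000000000000000000000000000000000000000000000000000000000000000000000000000000000000000000000000000000000000000000000000000000000000000000000000000000000000000000000000000000000000000000000000000000000000000000000000000000000000000000000000000000000000000000006216ad0000001885834c16c30e0b6a8705a8c3e4618900000000000000000000000000000000000000000000000000000000000000000000000000000000000000000000000000000000000000000000000000000000000000000000000000000000000000000000000000000000000000000000000000000000000000000000000000000000000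0000000000000000000000000000000000000000000000000000000000000000000000000000000000000000000000000000000000000000000000000000000006096a54000001825835c12c20e096a0704a083e0c5250000000000000000000000000c20c308000000000001e721850000000000000000000000000c38c3080000000000018f42a1000000000000000000000000000000000000000000018b40b1000000000000000000000000000000000000000000018f16b4000000000000000000000000000000000000000000018b16b4000000000000000000000000000000000000000000018b40350000000000000000000000000c58c3080000000000018b42a10000000000000000000000000c40c308000000000001e821850000000000000000000000000c38c2080000000000018b42850000000000000000000000000c20c208000000000001e72125000000000000000000000000000000000000000000018b4291000000000000000000000000000000000000000000018f1434000000000000000000000000000000000000000000018b4295000000000000000000000000000000000000000000018b14340000000000000000000000000c58c2080000000000018b42810000000000000000000000000c40c208000000000001e82125000000000000000000000000000000000000000000018b40b40000000000000000000000000000000000000000000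18f42b4000000000000000000000000000000000000030828c3e72189000000000000000000000000000000000000030e28c38f16a1000000000000000000000000000000000000000000018b42b4000000000000000000000000000000000000000000018b4034000000000000000000000000000000000000031628c38b16a1000000000000000000000000000000000000031028c3e82189000000000000000000000000000000000000000000018b1291000000000000000000000000000000000000000000018b10b1000000000000000000000000000000000000030e20838b128500000000000000000000000000000000000003082083e70525000000000000000000000000000000000000000000018b1295000000000000000000000000000000000000000000018b1035000000000000000000000000000000000000031620838b128100000000000000000000000000000000000003102083e80525000000000000000000000000000000000000000000018b16b1000000000000000000000000000000000000000000016c4295000000000000000000000000000000000000000000018b42b1000000000000000000000000000000000000000000016c129500000079c62140000018438a10000006106284000001e7208500000061c82840000018f38a100000061c62840000018f40a100000059c62140000018338a100000062c62840000018b40a1000000790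62140000018838a10000006206284000001e82085000000000000000000000000000000000000000000018b4095000000000000000000000000000000000000000000018b1491000000000000000000000000000000000000000000018b4091000000000000000000000000000000000000000000016c103500000062c621400000187208100000061c62040000018b40850000006106214000001e718250000006106204000001e7202500000061c621400000187208500000062c62040000018b40810000006206214000001e418250000006206204000001e820250000000000000000000000000b38c2080000000000018b42a40000000000000000000000000b38c3080000000000016c428100000000000000000000000000000000000002ce20838b16a400000000000000000000000000000000000002ce28c36c128100000062c629000000167208100000059c62040000018b40a400000061c62900000016c208100000059c62840000016c40810000006106290000001841824f38c20f9c6207ce2083e720810000006206290000001881824f20c20f906207d02083e820810000000000000000000000000820c3080000000000010721850000000000000000000000000820c208000000000001072125000000000000000000000000000000000000020828c30721890000000000000000000000000000000000000208208307052500000041c62140000010438a10000004106284000001072085000000410621400000107182500000041062040000010720250000004106290000001041824838c20c1c62060e20830720810000004106214000001041825820c20c106206082082000000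
/-- decomposable elements -/
def DT : ℕ := 0x1881248100002841000000001441428100000000818182410000000041414821000084210000000088110000441100001221000021210000221100001111600990090000000000000000a00550050000000006090909000000000a05050500000000000000000069009900a50055c00330030c03030300c30033000ffffe

theorem cl_eq (g j : ℕ) : cl g j = g / 2 ^ (5 * j) % 32 := by
  rw [cl, fld_eq, Nat.shiftRight_eq_div_pow]; exact Nat.and_two_pow_sub_one_eq_mod _ 5

theorem code_eq (g : GL5) : gcode g = cl (gcode g) 0 + 32 * cl (gcode g) 1 + 1024 * cl (gcode g) 2 +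
    32768 * cl (gcode g) 3 + 1048576 * cl (gcode g) 4 := by
  have := gcode5_lt g
  simp only [cl_eq]; omega

theorem cl_and (g m j : ℕ) : cl (g &&& m) j = cl g j &&& cl m j := by
  simp only [cl, fld_eq, Nat.shiftRight_and_distrib]
  rw [Nat.and_assoc, Nat.and_assoc, Nat.and_comm 31, Nat.and_assoc, Nat.and_self]

/-- the check for one unitriangular matrix -/
abbrev Ck (u k : ℕ) : Prop :=
  m5 u u = i5 → u ≠ i5 → isG k = true ∧ (m5 k u = m5 0x1041061 k ∨ m5 k u = m5 0x1061061 k)

set_option synthInstance.maxSize 100000 in
set_option synthInstance.maxHeartbeats 400000 in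
theorem tab : ∀ c1 < 32, c1 &&& 30 = 2 → ∀ c2 < 32, c2 &&& 28 = 4 → ∀ c3 < 32, c3 &&& 24 = 8 →
    ∀ c4 < 32, c4 &&& 16 = 16 → Ck (1 + 32 * c1 + 1024 * c2 + 32768 * c3 + 1048576 * c4)
      (fld 25 0x1ffffff CT (c1 - 2 + 2 * (c2 - 4) + 8 * (c3 - 8) + 64 * (c4 - 16))) := by
  decide +kernel

theorem uni {g : GL5} (h : gcode g &&& 0x10c73df = i5) : ∃ k, Ck (gcode g) k := by
  have e : ∀ j, cl (gcode g) j &&& cl 0x10c73df j = cl i5 j := fun j => by rw [← cl_and, h]
  have e0 : cl (gcode g) 0 = 1 := by
    have := e 0
    rw [show cl 0x10c73df 0 = 2 ^ 5 - 1 from rfl, Nat.and_two_pow_sub_one_eq_mod,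
      Nat.mod_eq_of_lt (cl_lt _ _)] at this
    exact this
  have := tab _ (cl_lt _ _) (e 1) _ (cl_lt _ _) (e 2) _ (cl_lt _ _) (e 3) _ (cl_lt _ _) (e 4)
  have e1 := code_eq g
  rw [e0] at e1
  rw [← e1] at this
  exact ⟨_, this⟩

theorem nf : NF prj.ker (MonoidHom.id NT) :=
  ⟨Function.injective_id, by rw [MonoidHom.range_eq_top.2 Function.surjective_id, normalizer_eq_top],
    fun _ => Iff.rfl⟩

theorem inv {g : GL5} (h : g * g = 1) (h1 : g ≠ 1) :
    ∃ k : GL5, gcode (k * g * k⁻¹) = 0x1041061 ∨ gcode (k * g * k⁻¹) = 0x1061061 := by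
  have hy : inl5 g * inl5 g = 1 := by rw [← map_mul, h, map_one]
  obtain ⟨n, -, hn⟩ := nf.syl_T.exists_conj_le (R := zpowers (inl5 g))
    (fun x => ⟨1, Subtype.ext (by
      rcases (mem_zpowers_of_sq hy).1 x.2 with e | e <;> simp [e, pow_two, hy])⟩)
    (by rw [normalizer_eq_top]; exact le_top)
  have h2 := hn (conj_mem_cj (mem_zpowers _))
  rw [Tg, Subgroup.map_id, mem_TT] at h2
  obtain ⟨k, hk⟩ := uni h2
  change Ck (gcode (n.g * g * n.g⁻¹)) k at hk
  obtain ⟨k1, k2⟩ := hk (by
    rw [C5.map_mul, ← C5.map_one]
    refine congrArg gcode ?_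
    calc _ = n.g * (g * g) * n.g⁻¹ := by group
      _ = 1 := by rw [h]; group)
    (fun e => h1 (by simpa using C5.inj (e.trans C5.map_one.symm)))
  have f : ∀ t, isG t = true → m5 k (gcode (n.g * g * n.g⁻¹)) = m5 t k →
      gcode (E5 k * n.g * g * (E5 k * n.g)⁻¹) = t := fun t ht e => by
    rw [← code_E5 ht, ← code_E5 k1, C5.map_mul, C5.map_mul] at e
    rw [← code_E5 ht]
    refine congrArg gcode ?_
    calc _ = E5 k * (n.g * g * n.g⁻¹) * (E5 k)⁻¹ := by group
      _ = _ := by rw [C5.inj e, mul_inv_cancel_right]
  exact ⟨E5 k * n.g, k2.imp (f _ (by decide +kernel)) (f _ (by decide +kernel))⟩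

theorem dt {a : ℕ} (ha : a < 1024) (h : dec2 a = false) : DT.testBit a = false := by
  have : ∀ a < 1024, DT.testBit a = true → dec2 a = true := by decide +kernel
  by_contra e
  rw [this a ha (by simpa using e)] at h
  exact absurd h (by decide)

theorem com {g t : GL5} (h : g * t = t * g) {j : ℕ} (hj : j < 5) :
    a5 (gcode g) (cl (gcode t) j) = a5 (gcode t) (cl (gcode g) j) := by
  have : 2 ^ j < 32 := Nat.pow_lt_pow_right (a := 2) (by norm_num) hj
  rw [← a5_pow _ hj, ← a5_pow _ hj, ← a5_mul _ _ this, ← a5_mul _ _ this, h]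

set_option synthInstance.maxSize 100000 in
set_option synthInstance.maxHeartbeats 400000 in
theorem k1 : ∀ c1 < 32, ∀ c0 < 32, c0 ^^^ c1 = a5 0x1041061 c1 ∧ DT.testBit (1 ^^^ wd c0 c1) = false →
    ∀ c2 < 32, c2 = a5 0x1041061 c2 ∧ DT.testBit (2 ^^^ wd c0 c2) = false →
    ∀ c3 < 32, c3 = a5 0x1041061 c3 ∧ DT.testBit (4 ^^^ wd c0 c3) = false ∧
      DT.testBit (128 ^^^ wd c2 c3) = false →
    ∀ c4 < 32, c4 = a5 0x1041061 c4 ∧ DT.testBit (8 ^^^ wd c0 c4) = false ∧
      DT.testBit (256 ^^^ wd c2 c4) = false ∧ DT.testBit (512 ^^^ wd c3 c4) = false →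
    c0 + 32 * c1 + 1024 * c2 + 32768 * c3 + 1048576 * c4 ∈ ({i5, 0x1041061} : Finset ℕ) := by
  decide +kernel

set_option synthInstance.maxSize 100000 in
set_option synthInstance.maxHeartbeats 400000 in
theorem k2 : ∀ c1 < 32, ∀ c0 < 32, c0 ^^^ c1 = a5 0x1061061 c1 → DT.testBit (1 ^^^ wd c0 c1) = false →
    ∀ c3 < 32, ∀ c2 < 32, c2 ^^^ c3 = a5 0x1061061 c3 → DT.testBit (2 ^^^ wd c0 c2) = false →
    DT.testBit (128 ^^^ wd c2 c3) = false → DT.testBit (20 ^^^ (wd c0 c3 ^^^ wd c1 c2)) = false →
    ∀ c4 < 32, c4 = a5 0x1061061 c4 → DT.testBit (8 ^^^ wd c0 c4) = false →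
    DT.testBit (256 ^^^ wd c2 c4) = false →
    c0 + 32 * c1 + 1024 * c2 + 32768 * c3 + 1048576 * c4 ∈ ({i5, 0x1061061} : Finset ℕ) := by
  decide +kernel

theorem cen {g t : GL5} (ht : gcode t = 0x1041061 ∨ gcode t = 0x1061061) (h : g * t = t * g)
    (hd : ∀ a < 1024, wa (gcode t) a = a → DT.testBit (a ^^^ wa (gcode g) a) = false) :
    gcode g ∈ ({i5, gcode t} : Finset ℕ) := by
  have c := fun j hj => com h (j := j) hj
  have p := fun j hj => a5_pow (gcode g) (i := j) hj
  have w := fun k (hk : k < 10) e => (wa_pow (gcode g) hk) ▸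
    hd (2 ^ k) (Nat.pow_lt_pow_right (a := 2) (by norm_num) hk) e
  have p3 : a5 (gcode g) 3 = cl (gcode g) 0 ^^^ cl (gcode g) 1 := by
    rw [← p 0 (by norm_num), ← p 1 (by norm_num), ← a5_xor]; rfl
  have p12 : a5 (gcode g) 12 = cl (gcode g) 2 ^^^ cl (gcode g) 3 := by
    rw [← p 2 (by norm_num), ← p 3 (by norm_num), ← a5_xor]; rfl
  rw [code_eq g]
  rcases ht with e | e <;> rw [e] at c w hd ⊢
  · exact k1 _ (cl_lt _ _) _ (cl_lt _ _) ⟨p3.symm.trans (c 1 (by norm_num)),
      w 0 (by norm_num) (by decide +kernel)⟩
      _ (cl_lt _ _) ⟨(p 2 (by norm_num)).symm.trans (c 2 (by norm_num)), w 1 (by norm_num) (by decide +kernel)⟩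
      _ (cl_lt _ _) ⟨(p 3 (by norm_num)).symm.trans (c 3 (by norm_num)), w 2 (by norm_num) (by decide +kernel),
        w 7 (by norm_num) (by decide +kernel)⟩
      _ (cl_lt _ _) ⟨(p 4 (by norm_num)).symm.trans (c 4 (by norm_num)), w 3 (by norm_num) (by decide +kernel),
        w 8 (by norm_num) (by decide +kernel), w 9 (by norm_num) (by decide +kernel)⟩
  · have w20 := hd 20 (by norm_num) (by decide +kernel)
    rw [show wa (gcode g) 20 = wa (gcode g) (2 ^ 2) ^^^ wa (gcode g) (2 ^ 4) from wa_xor _ 4 16,
      wa_pow _ (by norm_num), wa_pow _ (by norm_num)] at w20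
    exact k2 _ (cl_lt _ _) _ (cl_lt _ _) (p3.symm.trans (c 1 (by norm_num)))
      (w 0 (by norm_num) (by decide +kernel))
      _ (cl_lt _ _) _ (cl_lt _ _) (p12.symm.trans (c 3 (by norm_num))) (w 1 (by norm_num) (by decide +kernel))
      (w 7 (by norm_num) (by decide +kernel)) w20
      _ (cl_lt _ _) ((p 4 (by norm_num)).symm.trans (c 4 (by norm_num))) (w 3 (by norm_num) (by decide +kernel))
      (w 8 (by norm_num) (by decide +kernel))

theorem msk {t : ℕ} (ht : t = 0x1041061 ∨ t = 0x1061061) : ∃ m, ∃ M : Finset ℕ, M.card ≤ 8 ∧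
    (∀ a < 1024, a &&& m ∈ M) ∧ ∀ a < 1024, wa t a = a → a &&& m = 0 → DT.testBit a = false → a = 0 := by
  rcases ht with rfl | rfl
  · exact ⟨0x380, {0, 128, 256, 384, 512, 640, 768, 896}, by decide +kernel⟩
  · exact ⟨0x85, {0, 1, 4, 5, 128, 129, 132, 133}, by decide +kernel⟩

theorem conj_a (n : NT) {j : NT} (hj : j.g = 1) : (n * j * n⁻¹).a = wa (gcode n.g) j.a := by
  rw [NT.mul_a, NT.mul_a, NT.mul_g, hj, mul_one, NT.inv_a, ← wa_mul _ _ n.lt, mul_inv_cancel, C5.map_one,
    wa_one n.lt, Nat.xor_comm n.a, Nat.xor_assoc, Nat.xor_self, Nat.xor_zero]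

theorem conj_g (n : NT) {j : NT} : (n * j * n⁻¹).g = 1 ↔ j.g = 1 := by
  rw [NT.mul_g, NT.mul_g, NT.inv_g, mul_inv_eq_one, mul_eq_left]

theorem mul_a {a : NT} (ha : a.g = 1) (b : NT) : (a * b).a = a.a ^^^ b.a := by
  rw [NT.mul_a, ha, C5.map_one, wa_one b.lt]

theorem comm_iff {a : NT} (ha : a.g = 1) (y : NT) : a * y = y * a ↔ wa (gcode y.g) a.a = a.a := by
  rw [eq_comm, ← mul_inv_eq_iff_eq_mul, ← conj_a y ha]
  exact ⟨fun e => by rw [e], fun e => NT.ext e (((conj_g y).2 ha).trans ha.symm)⟩

theorem core (E J : Subgroup NT) {y : NT} (ht : gcode y.g = 0x1041061 ∨ gcode y.g = 0x1061061)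
    (hc : ∀ b ∈ E, b * y = y * b) (hE : 64 ≤ Nat.card E)
    (hJ : ∀ j ∈ J, j.g = 1 → dec2 j.a = false) (hA : ∀ b ∈ E, b.g = 1 → b ∈ J)
    (hm : ∀ a : NT, a.g = 1 → a * y = y * a → ∀ b ∈ E, a * b * a⁻¹ * b⁻¹ ∈ J) : False := by
  have h1 : Nat.card (E.map prj) ≤ 2 := by
    have : ∀ g : E.map prj, gcode (g : GL5) ∈ ({i5, gcode y.g} : Finset ℕ) := by
      rintro ⟨_, b, hb, rfl⟩
      refine cen ht (congrArg NT.g (hc b hb)) fun a ha e => ?_
      have i1 : (⟨a, 1, ha⟩ : NT)⁻¹.g = 1 := inv_one
      have := hm ⟨a, 1, ha⟩ rfl ((comm_iff rfl y).2 e) b hb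
      rw [mul_assoc, mul_assoc, ← mul_assoc b] at this
      have d := hJ _ this (by rw [NT.mul_g, (conj_g b).2 i1]; exact one_mul 1)
      rw [mul_a rfl, conj_a b i1, NT.inv_a, inv_one, C5.map_one, wa_one ha] at d
      exact dt (Nat.xor_lt_two_pow (n := 10) ha (wa_lt _ _)) d
    have := Nat.card_le_card_of_injective (fun g : E.map prj => (⟨_, this g⟩ : ({i5, gcode y.g} : Finset ℕ)))
      fun g k e => Subtype.ext (C5.inj (congrArg Subtype.val e))
    rw [Nat.card_eq_finsetCard] at this
    exact this.trans Finset.card_le_two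
  obtain ⟨m, M, hM, m1, m2⟩ := msk ht
  have h2 : Nat.card (E ⊓ prj.ker : Subgroup NT) ≤ 8 := by
    have := Nat.card_le_card_of_injective
      (fun b : (E ⊓ prj.ker : Subgroup NT) => (⟨_, m1 _ (b : NT).lt⟩ : M)) fun b b' e => by
        have e' : (b : NT).a &&& m = (b' : NT).a &&& m := congrArg Subtype.val e
        have g1 : ((b * b' : (E ⊓ prj.ker : Subgroup NT)) : NT).g = 1 := (b * b').2.2
        have z := m2 _ ((b * b' : (E ⊓ prj.ker : Subgroup NT)) : NT).lt
          ((comm_iff g1 y).1 (hc _ (b * b').2.1))
          (by rw [Subgroup.coe_mul, mul_a b.2.2, Nat.and_xor_distrib_right, e', Nat.xor_self])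
          (dt (NT.lt _) (hJ _ (hA _ (b * b').2.1 g1) g1))
        rw [Subgroup.coe_mul, mul_a b.2.2] at z
        exact Subtype.ext (NT.ext (Nat.eq_of_xor_eq_zero z) (Eq.trans b.2.2 (Eq.symm b'.2.2)))
    rw [Nat.card_eq_finsetCard] at this
    exact this.trans hM
  have := card_map_mul_card_inf_ker E prj
  have := Nat.mul_le_mul h1 h2
  omega

end FA

/-- involutions of `L5(2)` (conjugate into the unitriangular group, then a table of conjugators) -/
theorem inv_GL5 {g : GL5} (h : g * g = 1) (h1 : g ≠ 1) :
    ∃ k : GL5, gcode (k * g * k⁻¹) = tv 1 2 ∨ gcode (k * g * k⁻¹) = m5 (tv 1 2) (tv 3 4) := by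
  rw [show tv 1 2 = 0x1041061 by decide +kernel, show m5 0x1041061 (tv 3 4) = 0x1061061 by decide +kernel]
  exact FA.inv h h1

theorem fix64 {g : GL5} (h : g * g = 1) : 64 ≤ {a | a < 1024 ∧ wa (gcode g) a = a}.ncard := by
  obtain ⟨k, hk⟩ : ∃ k : GL5, 64 ≤ ((Finset.range 1024).filter fun a => wa (gcode (k * g * k⁻¹)) a = a).card := by
    by_cases h1 : g = 1
    · exact ⟨1, by rw [h1, mul_inv_cancel_right, C5.map_one]; decide +kernel⟩
    obtain ⟨k, e | e⟩ := FA.inv h h1 <;> exact ⟨k, by rw [e]; decide +kernel⟩
  rw [← Set.ncard_coe_finset] at hk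
  refine hk.trans (Set.ncard_le_ncard_of_injOn (wa (gcode k⁻¹)) (fun a ha => ?_) (fun a ha b hb e => ?_)
    ((Set.finite_lt_nat 1024).subset fun a ha => ha.1))
  · simp only [Finset.coe_filter, Finset.mem_range, Set.mem_ofPred_eq] at ha
    refine ⟨wa_lt _ _, ?_⟩
    rw [← wa_mul _ _ ha.1, show g * k⁻¹ = k⁻¹ * (k * g * k⁻¹) by group, wa_mul _ _ ha.1, ha.2]
  · simp only [Finset.coe_filter, Finset.mem_range, Set.mem_ofPred_eq] at ha hb
    have := congrArg (wa (gcode k)) e
    rwa [← wa_mul _ _ ha.1, ← wa_mul _ _ hb.1, mul_inv_cancel, C5.map_one, wa_one ha.1, wa_one hb.1] at this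

/-- PROOF. Conjugate by `inl5 k` (`dec2_wa`). If `y.g = t12`: `C_A(y) = e1 ∧ V + Λ² ⟨e3, e4, e5⟩` (dimension 7).
For `b ∈ E`, `b.g` commutes with `t12`, so fixes `e1`; `[e1 ∧ V, b] ≤ e1 ∧ V` consists of decomposable
elements, so is zero and `b.g = 1 + e1 ⊗ ψ`; `[e3 ∧ e4, b] ∈ e1 ∧ V` etc. give `b.g ∈ ⟨t12⟩`. So
`|E ⊓ A| ≥ 32` inside `C_A(y)`, and it meets `e1 ∧ V` (dimension 4) non-trivially. If `y.g = t12 t34`:
`C_A(y) = Λ² ⟨e1, e3, e5⟩ + ⟨e12, e34, e14 + e23⟩`; `b.g` normalises `⟨e1, e3, e5⟩`, is trivial on its exterior
square, so on it; commuting with `y.g` and `[e12, b]`, `[e34, b]` decomposable give `b.g ∈ ⟨t12, t34⟩`;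
`|E ⊓ A| ≥ 16` in dimension 6 meets `Λ² ⟨e1, e3, e5⟩`. -/
theorem two (E J : Subgroup NT) {y : NT} (hy : y ∈ E) (h2 : y * y = 1) (h1 : y.g ≠ 1)
    (hc : ∀ b ∈ E, b * y = y * b) (hE : 64 ≤ Nat.card E)
    (hJ : ∀ j ∈ J, j.g = 1 → dec2 j.a = false) (hA : ∀ b ∈ E, b.g = 1 → b ∈ J)
    (hm : ∀ a : NT, a.g = 1 → a * y = y * a → ∀ b ∈ E, a * b * a⁻¹ * b⁻¹ ∈ J) : False := by
  obtain ⟨k, hk⟩ := FA.inv (g := y.g) (congrArg NT.g h2) h1
  refine FA.core (inl5 k •ᶜ E) (inl5 k •ᶜ J) (y := inl5 k * y * (inl5 k)⁻¹) hk ?_ (by rwa [card_cj]) ?_ ?_ ?_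
  · rintro _ ⟨b, hb, rfl⟩
    change inl5 k * b * (inl5 k)⁻¹ * _ = _ * (inl5 k * b * (inl5 k)⁻¹)
    calc _ = inl5 k * (b * y) * (inl5 k)⁻¹ := by group
      _ = _ := by rw [hc b hb]; group
  · rintro _ ⟨j, hj, rfl⟩ e
    have e' := (FA.conj_g _).1 e
    change dec2 (inl5 k * j * (inl5 k)⁻¹).a = false
    rw [FA.conj_a _ e', dec2_wa _ j.lt, hJ j hj e']
  · rintro _ ⟨b, hb, rfl⟩ e
    exact conj_mem_cj (hA b hb ((FA.conj_g _).1 e))
  · rintro a ha e _ ⟨b, hb, rfl⟩
    have := hm ((inl5 k)⁻¹ * a * (inl5 k)⁻¹⁻¹) ((FA.conj_g _).2 ha) (by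
      calc _ = (inl5 k)⁻¹ * (a * (inl5 k * y * (inl5 k)⁻¹)) * inl5 k := by group
        _ = _ := by rw [e]; group) b hb
    rw [mem_cj]
    convert this using 1
    change (inl5 k)⁻¹ * (a * (inl5 k * b * (inl5 k)⁻¹) * a⁻¹ * (inl5 k * b * (inl5 k)⁻¹)⁻¹) * inl5 k = _
    group

end CL.T10
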