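import Cfsg.Agent.SPOR.T10.ApiM
import Cfsg.Agent.SPOR.T10.Alf
import Cfsg.Agent.SPOR.T10.J4c
import Cfsg.Agent.SPOR.J4P.Main

/-!
The case `S5`: Janko-four type.
-/

set_option autoImplicit false
set_option maxRecDepth 100000
set_option linter.unusedSectionVars false

namespace CL.T10

open CL.K CL.CG CL.F2M CL.F24 CL.LX CL.MSS Subgroup Cfsg
open CL.J4P (Kv)

attribute [local irreducible] gcode vcode

variable {G : Type*} [Group G] {A : Subgroup G} {φ : NT →* G} {ρ : H1 φ →* GL12}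

namespace J4x
open CL.J4P

theorem adj {c t a s : G} (hc : c * a * c⁻¹ = a ∨ c * a * c⁻¹ = a * s) (ht : t * a * t⁻¹ = a * s)
    (hs : t * s * t⁻¹ = s) (ss : s * s = 1) : c * a = a * c ∨ t * c * a = a * (t * c) :=
  hc.imp mul_inv_eq_iff_eq_mul.1 fun e => mul_inv_eq_iff_eq_mul.1 (by
    calc t * c * a * (t * c)⁻¹ = t * (c * a * c⁻¹) * t⁻¹ := by group
      _ = a := by rw [e, ← conj_mul, ht, hs, mul_assoc, ss, mul_one])

variable [Finite G] (h : BF A φ ρ)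
include h

theorem qq_conj {v a b : ℕ} (hv : v < 4096) (ha : a < 1024) (e : wa (qc v >>> 10) a = b) :
    qq φ v * al φ a * (qq φ v)⁻¹ = al φ b := e ▸ conj_al (isN_qc hv) ha

/-- a lift centralising `Z` -/
theorem lift {c : G} {Y : ℕ} (hc : Kv ρ c Y) (h1 : ac Y 1 = 1) (h2 : ac Y 64 = 64) :
    ∃ c' ∈ centralizer (Zg φ : Set G), Kv ρ c' Y := by
  have hs : ∀ v < 4096, qq φ v * sg φ * (qq φ v)⁻¹ = sg φ := fun v hv => by rw [qq_s hv, mul_inv_cancel_right]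
  have hq : ∀ v < 4096, ∀ {c}, Kv ρ c Y → Kv ρ (qq φ v * c) Y := fun v hv c hc =>
    ((h.kv_Q (qq_mem hv)).mul hc).cast (X6.c1_mm hc)
  have a1 : qq φ 512 * ze φ 2 * (qq φ 512)⁻¹ = ze φ 2 * sg φ :=
    (qq_conj h (by norm_num) (by decide) (by decide +kernel)).trans ((ze_mul (c := 2) (d := 4) (by norm_num)
      (by norm_num)).trans (by rw [ze_four]))
  have a2 : qq φ 8 * ze φ 1 * (qq φ 8)⁻¹ = ze φ 1 * sg φ :=
    (qq_conj h (by norm_num) (by decide) (by decide +kernel)).trans ((ze_mul (c := 1) (d := 4) (by norm_num)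
      (by norm_num)).trans (by rw [ze_four]))
  have a3 : qq φ 8 * ze φ 2 = ze φ 2 * qq φ 8 :=
    mul_inv_eq_iff_eq_mul.1 (qq_conj h (by norm_num) (by decide) (by decide +kernel))
  obtain ⟨d, hd, e⟩ : ∃ d, Kv ρ d Y ∧ d * ze φ 2 = ze φ 2 * d := by
    have := h.kv_conj hc (by norm_num : 1 < 4096)
    rw [h1, ← ze_two] at this
    rcases adj this a1 (hs _ (by norm_num)) h.s_sq with e | e
    exacts [⟨_, hc, e⟩, ⟨_, hq _ (by norm_num) hc, e⟩]
  have := h.kv_conj hd (by norm_num : 64 < 4096)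
  rw [h2, ← ze_one] at this
  have k : ∀ {d}, Kv ρ d Y → d * ze φ 4 = ze φ 4 * d := fun hd => ze_four (φ := φ) ▸ h.mem_H.1 hd.1
  rcases adj this a2 (hs _ (by norm_num)) h.s_sq with e' | e'
  · exact ⟨_, mem_C e' e (k hd), hd⟩
  · exact ⟨_, mem_C e' (Commute.mul_left a3 e) (k (hq _ (by norm_num) hd)), hq _ (by norm_num) hd⟩

theorem lift4 (hJ : JC ρ.range) : ∃ c ∈ centralizer (Zg φ : Set G), ∃ Y, Kv ρ c Y ∧ alf Y = 0x84a5 := by
  obtain ⟨_, ⟨c, rfl⟩, h1, h2⟩ := hJ.ex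
  have hc : Kv ρ c (gcode (ρ c)) := ⟨c.2, rfl⟩
  have k : ∀ n < 16, ac (eE (a4 0x84a5 n)) (sv (ρ c) 64) = sv (ρ c) 64 := fun n hn => by
    have e := h.xf.alf_conj ⟨c, rfl⟩ h1 hn
    rw [h2, mul_inv_eq_iff_eq_mul] at e
    have e' := congrArg (sv · 64) e
    simp only [sv_mul _ _ (show 64 < 4096 by norm_num)] at e'
    rw [sv, sv, sv, (top_eE hn).code_elt, (top_eE (a4_lt _ _)).code_elt, (e_tab n hn).2.2.2.2.2.1] at e'
    exact e'.symm
  have t : eE (a4 0x84a5 5) = a34 ∧ eE (a4 0x84a5 10) = a35 ∧ eE (a4 0x84a5 4) = x34 ∧ eE (a4 0x84a5 8) = x35 := by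
    decide +kernel
  rcases (v_tab (sv_lt (ρ c) 64)).2.2.2.2.2.2.2 (t.1 ▸ k 5 (by norm_num)) (t.2.1 ▸ k 10 (by norm_num))
    (t.2.2.1 ▸ k 4 (by norm_num)) (t.2.2.2 ▸ k 8 (by norm_num)) with e | e | e | e
  · exact absurd (X6.ac_inj hc (by norm_num) (by norm_num) (e.trans (X6.ac_zero' hc).symm)) (by norm_num)
  · exact absurd (X6.ac_inj hc (by norm_num) (by norm_num) (e.trans h1.symm)) (by norm_num)
  · obtain ⟨d, hd, e'⟩ := lift h hc h1 e
    exact ⟨d, hd, _, e', h2⟩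
  · have hs : Kv ρ (el φ (nc 0 (tv 1 2))) xS := h.kv_el (by decide +kernel)
    have s1 : ac xS 1 = 1 ∧ ac xS 64 = 1 ^^^ 64 := by decide +kernel
    obtain ⟨d, hd, e'⟩ := lift h (hc.mul hs) (by rw [X6.ac_mm hc hs (by norm_num), s1.1]; exact h1) (by
      rw [X6.ac_mm hc hs (by norm_num), s1.2, ac_xor']
      exact (congrArg₂ _ h1 e).trans (by decide))
    refine ⟨d, hd, _, e', ?_⟩
    rw [← hs.2, C12.map_mul, h.xf.alf_mul ⟨c, rfl⟩ h1 ⟨_, rfl⟩ (by rw [sv, hs.2, s1.1]), h2, hs.2]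
    decide +kernel

theorem C_tab (hJ : JC ρ.range) {c : G} (hc : c ∈ centralizer (Zg φ : Set G)) :
    ∃ i < 120, alf (gcode (ρ ⟨c, C_H h hc⟩)) = TA i := by
  obtain ⟨g, hg, e⟩ := hJ.sub _ ⟨⟨c, C_H h hc⟩, rfl⟩ (sv_fix h (kv_of (C_H h hc)) (by norm_num)
    (ze_two (φ := φ) ▸ C_comm hc (by norm_num)))
  exact e ▸ complete_TA g hg

theorem el_C {c : ℕ} (hc : isN c = true) (e : wa (c >>> 10) 16 = 16 ∧ wa (c >>> 10) 2 = 2 ∧ wa (c >>> 10) 1 = 1) :
    el φ c ∈ centralizer (Zg φ : Set G) :=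
  mem_C (mul_inv_eq_iff_eq_mul.1 ((conj_al hc (by decide)).trans (congrArg _ e.1)))
    (mul_inv_eq_iff_eq_mul.1 ((conj_al hc (by decide)).trans (congrArg _ e.2.1)))
    (mul_inv_eq_iff_eq_mul.1 ((conj_al hc (by decide)).trans (congrArg _ e.2.2)))

variable (hJ : JC ρ.range) {r : normalizer (Zg φ : Set G) →* GL12}
  (hr : ∀ k : normalizer (Zg φ : Set G), ∀ a ∈ Lg φ, ka φ (k * a * (k : G)⁻¹) = ac (gcode (r k)) (ka φ a))
include hJ hr

theorem ker (k : normalizer (Zg φ : Set G)) : r k = 1 ↔ (k : G) ∈ Lg φ := by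
  refine ⟨fun e => ?_, fun e => sv_ext fun j hj => ?_⟩
  · have k1 : ∀ c < 8, (∃ v < 4096, sqC v = c) → (k : G) * ze φ c = ze φ c * k := by
      rintro c - ⟨v, hv, rfl⟩
      obtain ⟨x, hx, rfl⟩ := ka_surj h.toNF hv
      have h1 := L_sq h.toNF (K_conj_L h k.2 hx)
      rw [conj_mul, L_sq h.toNF hx, hr k x hx, e, C12.map_one, X6.ac_c1 hv] at h1
      exact mul_inv_eq_iff_eq_mul.1 h1
    have hc := mem_C (k1 1 (by norm_num) ⟨0x810, by norm_num, by decide +kernel⟩)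
      (k1 2 (by norm_num) ⟨0x108, by norm_num, by decide +kernel⟩)
      (k1 4 (by norm_num) ⟨0x81, by norm_num, by decide +kernel⟩)
    obtain ⟨i, hi, e1⟩ := C_tab h hJ hc
    have hk := kv_of (ρ := ρ) (C_H h hc)
    have e2 := (kv_C h hr hc hk hi e1).2
    obtain rfl := inj_TN i hi 0 (by norm_num) (e2.symm.trans ((congrArg gcode e).trans
      (C12.map_one.trans TW_vals.2.2.2.2.2.2.2.1.symm)))
    have e3 := sv_fix h hk (by norm_num : 64 < 4096) (ze_one (φ := φ) ▸ C_comm hc (by norm_num))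
    obtain ⟨n, hn, e4⟩ := (mem_ZB _).1 (h.xf.alf_ker ⟨_, rfl⟩ (sv_fix h hk (by norm_num)
      (ze_two (φ := φ) ▸ C_comm hc (by norm_num))) (e1.trans (by decide +kernel)))
    obtain ⟨t1, t2, t3, -, -, -, t4⟩ := e_tab n hn
    have e5 := e4.resolve_right fun e5 => by rw [e5, t4] at e3; omega
    have hl : Kv ρ (lx φ _ _) _ := h.kv_el t1
    have m := lx_mem (φ := φ) t2 t3
    generalize lx φ _ _ = l at hl m
    have e6 : Kv ρ (k * l⁻¹) c1 := ⟨mul_mem hk.1 (inv_mem hl.1), by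
      rw [← C12.map_one, ← mul_inv_cancel (ρ ⟨l, hl.1⟩), ← C12.inj (e5.trans hl.2.symm),
        C12.inj (e5.trans hl.2.symm), ← map_inv, ← C12.inj (e5.trans hl.2.symm), ← map_mul]
      rfl⟩
    exact (mul_mem_cancel_right (inv_mem m)).1
      (memL_of_Q h.toNF (h.ker.1 e6) (mul_mem hc (inv_mem (L_C h.toNF m))))
  · obtain ⟨x, hx, e'⟩ := ka_surj h.toNF (Nat.pow_lt_pow_right (a := 2) (by norm_num) hj)
    rw [← e', sv, ← hr k x hx, sv_one (ka_lt h.toNF hx), ka_mul h.toNF (mul_mem e hx) (inv_mem e),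
      ka_mul h.toNF e hx, ka_inv h.toNF e, Nat.xor_comm, ← Nat.xor_assoc, Nat.xor_self, Nat.zero_xor]

theorem range : r.range = gen gcode LJ := by
  have a1 := (acs h.toNF).1.kv h hr (top_LJ _ (by decide))
  have a2 := (acs h.toNF).2.2.1.kv h hr (top_LJ _ (by decide))
  refine le_antisymm ?_ (C12.gen_le fun c hc => ?_)
  · rintro _ ⟨k, rfl⟩
    obtain ⟨g, hg, hc⟩ := dec h.toNF k.2
    have h1 : (gen gcode [y5, tv 1 2] : Subgroup GL5) ≤
        (((gen gcode LJ).comap r).map (normalizer (Zg φ : Set G)).subtype).comap (φ.comp inl5) := by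
      refine (C5.gen_le_iff top_V).2 fun c hc => ?_
      have e : φ.comp inl5 (elt gcode c) = ll φ c := by
        rw [← (top_V c hc).code_elt, ll_code, C5.elt_code]; rfl
      rw [mem_comap, e]
      simp only [List.mem_cons, List.not_mem_nil, or_false] at hc
      rcases hc with rfl | rfl
      exacts [⟨⟨_, a1.1⟩, subset_closure (show _ ∈ LJ from a1.2 ▸ by decide), rfl⟩,
        ⟨⟨_, a2.1⟩, subset_closure (show _ ∈ LJ from a2.2 ▸ by decide), rfl⟩]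
    obtain ⟨w, hw, e⟩ := h1 hg
    obtain ⟨i, hi, e1⟩ := C_tab h hJ hc
    have e2 := kv_C h hr hc (kv_of (C_H h hc)) hi e1
    have e3 : k = w * ⟨_, e2.1⟩ := Subtype.ext (by
      rw [coe_mul, show (w : G) = φ (inl5 g) from e, mul_inv_cancel_left])
    rw [e3, map_mul]
    exact mul_mem hw (LN_le (C12.mem_iff.1 (e2.2 ▸ sound_TN i hi)))
  · have m : ∀ {k X}, Kv r k X → Mem gcode r.range X := fun hk => ⟨_, ⟨_, rfl⟩, hk.2⟩
    have t : ∀ {c Y i}, kvB c Y = true → (wa (c >>> 10) 16 = 16 ∧ wa (c >>> 10) 2 = 2 ∧ wa (c >>> 10) 1 = 1) →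
        i < 120 → alf Y = TA i → Mem gcode r.range (TN i) := fun e e' hi e'' =>
      m (kv_C h hr (el_C h (Bool.and_eq_true_iff.1 e).1 e') (h.kv_el e) hi e'')
    obtain ⟨d, hd, Y, hY, e⟩ := lift4 h hJ
    have hL : ∀ c ∈ [TN 2, TN 11, TN 33, TN 22], Mem gcode r.range c := by
      simp only [List.mem_cons, List.not_mem_nil, or_false, forall_eq_or_imp, forall_eq]
      exact ⟨t (c := nc 512 i5) (Y := a45) (by decide +kernel) (by decide +kernel) (by norm_num) (by decide +kernel),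
        t (c := nc 0 (tv 4 5)) (Y := x45) (by decide +kernel) (by decide +kernel) (by norm_num) (by decide +kernel),
        t (c := nc 0 (tv 5 4)) (Y := x54) (by decide +kernel) (by decide +kernel) (by norm_num) (by decide +kernel),
        m (kv_C h hr hd hY (by norm_num) (e.trans (by decide +kernel)))⟩
    have := C12.mem_of_wordsB hL (W := [(jc, [0, 3, 0, 3]), (js, [0]), (jg, [1, 2, 1]), (jf, [0, 1])])
      (by decide +kernel)
    simp only [LJ, List.mem_cons, List.not_mem_nil, or_false] at hc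
    rcases hc with rfl | rfl | rfl | rfl | rfl | rfl
    exacts [this _ (by decide), this _ (by decide), this _ (by decide), this _ (by decide), m a1, m a2]

theorem pc : PC (normalizer (Zg φ : Set G)) (Lg φ) (ka φ) r (ze φ) where
  le _ hx := C_le (L_C h.toNF hx)
  κ_lt _ := ka_lt h.toNF
  κ_mul _ ha _ hb := ka_mul h.toNF ha hb
  κ_surj _ := ka_surj h.toNF
  κ_zero _ := ka_zero h.toNF
  ζ_mem _ := ze_mem
  ζ_mul _ hc _ hd := ze_mul hc hd
  ζ_inj _ hc e := ze_inj h.toNF hc (by norm_num) (e.trans ze_zero.symm)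
  conj_mem _ hk _ := K_conj_L h hk
  κ_conj := hr
  ker := ker h hJ hr
  range := range h hJ hr
  comm _ ha _ := L_comm h.toNF ha
  sq _ := L_sq h.toNF
  norm _ := mem_K

theorem qd : QD (Lg φ) (ka φ) r (ze φ) (Qg φ) := by
  have P := pc h hJ hr
  have a1 : Kv r (qq φ 8) jt1 := (acs h.toNF).2.2.2.1.kv h hr
    (TW_vals.2.2.2.2.1 ▸ (sound_TW 79 (by norm_num)).top)
  have a2 : Kv r (qq φ 512) jt2 := (acs h.toNF).2.2.2.2.1.kv h hr
    (TW_vals.2.2.2.2.2.1 ▸ (sound_TW 10 (by norm_num)).top)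
  have l : ∀ {k X}, Kv r k X → ∀ x ∈ Lg φ, Kv r (x * k) X ∧ Kv r (k * x) X := fun hk x hx =>
    ⟨((P.kv_L hx).mul hk).cast (X6.c1_mm hk), (hk.mul (P.kv_L hx)).cast (X6.mm_c1 hk)⟩
  have m : ∀ u < 4096, ∀ v < 4096, ∀ {X}, Kv r (qq φ u * qq φ v) X → Kv r (qq φ (u ^^^ v)) X :=
    fun u hu v hv X hX => by
      have := (l hX _ (inv_mem (pow_mem s_memL (bt u v)))).2
      rwa [qq_mul hu hv, mul_inv_cancel_right] at this
  have a3 : Kv r (qq φ 520) jt3 :=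
    m 8 (by norm_num) 512 (by norm_num) ((a1.mul a2).cast (by decide +kernel))
  have b : ∀ v < 4096, ∀ {X}, Kv r (qq φ (v &&& 520)) X → Kv r (qq φ v) X ∧ Kv r (qq φ v * sg φ) X :=
    fun v hv X hX => by
      have h1 : v &&& 520 < 4096 := Nat.and_lt_two_pow (n := 12) v (by norm_num)
      have := m _ (xor12 hv h1) _ h1 (l hX _ (qq_memL h.toNF (xor12 hv h1) (v_tab hv).2.2.2.1)).1
      rw [Nat.xor_assoc, Nat.xor_self, Nat.xor_zero] at this
      exact ⟨this, (l this _ s_memL).2⟩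
  refine ⟨ze_four (φ := φ) ▸ h.lx, h.card_Q, fun _ => Q_iff h, fun q hq => ?_, _, qq_mem (by norm_num), a1⟩
  obtain ⟨v, hv, e⟩ := mem_Q.1 hq
  have b' : ∀ {X}, Kv r (qq φ (v &&& 520)) X → Kv r q X := fun hX => by
    rcases e with rfl | rfl
    exacts [(b v hv hX).1, (b v hv hX).2]
  rcases (v_tab hv).2.2.2.2.1 with e' | e' | e' | e' <;> rw [e'] at b'
  exacts [Or.inl (b' (qq_zero (φ := φ) ▸ kv_one)), Or.inr (Or.inl (b' a1)), Or.inr (Or.inr (Or.inl (b' a2))),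
    Or.inr (Or.inr (Or.inr (b' a3)))]

end J4x

/-- PROOF. Build `CL.J4P.PC K L κ ρ' ζ` and `QD`, then `CL.J4P.QD.type`. `Z3 = Λ² ⟨e1, e2, e3⟩`,
`ζ 1 = e2 ∧ e3 = al 16`, `ζ 2 = e1 ∧ e3 = z`, `ζ 4 = s`; `K = N(Z3)`;
`L = {al a * ll r : a < 512, r ∈ ⟨t_i4, t_i5 : i ≤ 3⟩}` of order `2 ^ 15`, `L / Z3 = ⟨e1, e2, e3⟩ ⊗ N4`,
`N4 = ⟨e4, e5, e4*, e5*⟩` (`e_i ⊗ e4 = e_i ∧ e4`, `e_i ⊗ e4* = t_i4`); nibble `i` of `κ` is `P n_i` for a fixed
`P ∈ GL4` with `P ⟨L120⟩ P⁻¹ =` the 4 × 4 blocks of `⟨LN⟩` and `FC (P u) (P v) = B4 u v` (find `P` by search).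
`comm`, `sq` by codes. `L` is generated by the `C_(Q_y)(Z3)`, `y ∈ Z3#` (`= plane ⊗ N4`, all `y` conjugate to
`s` under `GL(e1, e2, e3) ≤ N ⊓ K`), so `C(Z3)` normalises `L`, each `plane ⊗ N4`, their intersections
`e ⊗ N4` (7 points), hence acts as `1 ⊗ γ`; on `e3 ⊗ N4`, which maps onto `EB` under `ρ`, `γ = alf` (`alf_conj`).
`K = C(Z3) · ll GL(e1, e2, e3)`. Kernel: `k` trivial on `L / Z3` centralises `Z3 = [L, L]`, `ρ k ∈ ZB`
(`alf_ker`) fixes the vector 64, so lies in `EB`, `k = q l`, `q ∈ C_Q(Z3) ≤ L`. Range: if `x ∈ ρ.range` fixes 1,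
a lift `c` can be chosen in `C(s, z)` (multiply by `q ∈ Q`); it normalises `Z3` (the vectors fixed by `EB`),
and `t13 ∈ Q`, `t12` (with `alf xS = 1`) adjust the action on `e2 ∧ e3`. `QD`: `o2c` (`JC.not_le`), `Q` acts on
`L / Z3` through `t13`, `t23`. `hne`: `ll (tv 4 3)`. -/
theorem BF.j4 [Finite G] (h : BF A φ ρ) (hJ : JC ρ.range) : IsOfJankoFourType G := by
  obtain ⟨r, hr⟩ := J4x.exists_rho (K := normalizer (J4x.Zg φ : Set G)) (fun _ => J4x.ka_lt h.toNF)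
    (fun _ ha _ => J4x.ka_mul h.toNF ha) (fun _ => J4x.ka_surj h.toNF) (fun _ hk _ => J4x.K_conj_L h hk)
    fun k hk a ha e => (J4x.ka_zero h.toNF (J4x.K_conj_L h hk ha)).2
      ((mem_normalizer_iff.1 hk a).1 ((J4x.ka_zero h.toNF ha).1 e))
  have e : O2C (J4x.ze φ 4) = Qg φ := J4x.ze_four (φ := φ) ▸ h.o2c fun e =>
    hJ.not_le (e.le.trans (le_chain.2.2.2.2.2.1.trans le_chain.2.2.2.2.2.2.1))
  have c : ∀ a < 1024, el φ (nc 0 (tv 4 3)) * al φ a * (el φ (nc 0 (tv 4 3)))⁻¹ = _ := fun a ha =>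
    conj_al (by decide +kernel) ha
  refine (e ▸ J4x.qd h hJ hr).type (J4x.pc h hJ hr) ⟨el φ (nc 0 (tv 4 3)), mul_inv_eq_iff_eq_mul.1
    ((c _ (by decide)).trans (congrArg _ (by decide +kernel))), fun hk => ?_⟩
  obtain ⟨d, hd, e'⟩ := J4x.mem_K.1 hk 2 (by norm_num)
  have := (J4x.zc_tab d hd).1
  exact (show ∀ d < 8, wa (nc 0 (tv 4 3) >>> 10) (J4x.zc 2) ≠ J4x.zc d by decide +kernel) d hd
    (h.al_inj (wa_lt _ _) (by omega) ((c _ (by decide)).symm.trans e'))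

end CL.T10
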