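import Cfsg.Agent.SPOR.T10.Defs

/-!
Finite facts about the subgroups of `GL12`.
-/

set_option autoImplicit false
set_option maxRecDepth 100000

namespace CL.T10

open CL.K CL.CG CL.F2M CL.F24 CL.LX CL.MSS Subgroup Cfsg
open CL.J4P (Kv)

attribute [local irreducible] gcode vcode

namespace ApiG

theorem top_of {L : List ℕ} (h : lall (fun c => F2M.unitB 12 CM 4095 c c || F2M.unitB 12 CM 4095 c (mm c c)) L = true) :
    ∀ c ∈ L, Mem (gcode : GL12 → ℕ) ⊤ c := fun c hc => by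
  have := lall_iff.1 h c hc
  rw [Bool.or_eq_true] at this
  exact this.elim ok12.mem_of_unitB ok12.mem_of_unitB

theorem top_all : ∀ c ∈ gY ++ [a34, a35, x35, xZ], Mem (gcode : GL12 → ℕ) ⊤ c := top_of (by decide +kernel)

theorem mem_powC {H : Subgroup GL12} {c : ℕ} (h : Mem gcode H c) (n : ℕ) : Mem gcode H (powC mm c1 c n) := by
  obtain ⟨g, hg, rfl⟩ := h
  exact ⟨_, pow_mem hg n, (C12.powC_eq g n).symm⟩

theorem gen_mem {L : List ℕ} (h : ∀ c ∈ L, c ∈ gY ++ [a34, a35, x35, xZ]) :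
    ∀ c ∈ L, Mem (gcode : GL12 → ℕ) (gen gcode L) c := mem_gen fun c hc => top_all c (h c hc)

theorem gen_mono {L L' : List ℕ} (h : ∀ c ∈ L, c ∈ L') : (gen gcode L : Subgroup GL12) ≤ gen gcode L' :=
  Subgroup.closure_mono fun _ hc => h _ hc

theorem mem_eE {H : Subgroup GL12} (h : ∀ c ∈ gE, Mem gcode H c) (n : ℕ) : Mem gcode H (eE n) :=
  C12.mem_mul (C12.mem_mul (mem_powC (h _ (by decide)) _) (mem_powC (h _ (by decide)) _))
    (C12.mem_mul (mem_powC (h _ (by decide)) _) (mem_powC (h _ (by decide)) _))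

theorem gT_mem : ∀ c ∈ gT, Mem (gcode : GL12 → ℕ) TB c := gen_mem (by decide)

theorem gE_TB : ∀ c ∈ gE, Mem (gcode : GL12 → ℕ) TB c :=
  C12.mem_of_wordsB gT_mem (W := [(a34, [1, 2, 1, 3, 1, 2, 1, 3]), (a35, [1, 3, 1, 3]), (x34, [1]),
    (x35, [1, 2, 1, 2])]) (by decide +kernel)

theorem mem_tT (m : ℕ) : Mem (gcode : GL12 → ℕ) TB (tT m) :=
  C12.mem_mul (C12.mem_mul (mem_powC (gT_mem _ (by decide)) _) (mem_eE gE_TB _))
    (C12.mem_mul (mem_powC (gT_mem _ (by decide)) _) (mem_powC (gT_mem _ (by decide)) _))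

theorem mem_tS (m : ℕ) : Mem (gcode : GL12 → ℕ) SB (tS m) :=
  C12.mem_mul ((mem_tT _).mono (gen_mono (by decide))) (mem_powC (gen_mem (L := gS) (by decide) _ (by decide)) _)

/-- the elements of `AB` -/
def LA : List ℕ := [0x800400200100080040020010008004002001, 0x80044028010008004002001100a004002001, 0x84040030010008004002101000c004002001, 0x84044038010008004002101100e004002001, 0x880500200100080040022014008004002001, 0x88054028010008004002201500a004002001, 0x8c050030010008004002301400c004002001, 0x8c054038010008004002301500e004002001]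
/-- the elements of `ZB` -/
noncomputable def tZ (m : ℕ) : ℕ := mm (powC mm c1 xS (bit m 4)) (eE (Nat.land m 15))

theorem sound_A : Sound (gcode : GL12 → ℕ) AB 8 (lget LA) :=
  sound_lget (L := LA) (C12.mem_of_wordsB (gen_mem (L := gB) (by decide)) (W := LA.zip
    [[], [0], [1], [0, 1], [2], [0, 2], [1, 2], [0, 1, 2]]) (by decide +kernel))

theorem compl_A : Complete (gcode : GL12 → ℕ) AB 8 (lget LA) :=
  C12.complete_of_closed (J := fun s i => fld 8 255 0x30201000706050405040706010003020607040502030001 (8 * s + i))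
    (by norm_num) (by decide +kernel) (by decide +kernel)

theorem compl_E : Complete (gcode : GL12 → ℕ) EB 16 eE :=
  C12.complete_of_closed (J := fun s i => fld 8 255 0x7060504030201000f0e0d0c0b0a09080b0a09080f0e0d0c03020100070605040d0c0f0e09080b0a05040706010003020e0f0c0d0a0b08090607040502030001 (16 * s + i))
    (by norm_num) (by decide +kernel) (by decide +kernel)

theorem sound_Z : Sound (gcode : GL12 → ℕ) ZB 32 tZ := fun _ _ =>
  C12.mem_mul (mem_powC (gen_mem (L := gZ) (by decide) _ (by decide)) _)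
    (mem_eE (fun c hc => gen_mem (L := gZ) (by decide) c (List.mem_cons_of_mem _ hc)) _)

theorem compl_Z : Complete (gcode : GL12 → ℕ) ZB 32 tZ :=
  C12.complete_of_closed (J := fun s i => fld 8 255 0x17161514131211101f1e1d1c1b1a191807060504030201000f0e0d0c0b0a09081b1a19181f1e1d1c13121110171615140b0a09080f0e0d0c03020100070605041d1c1f1e19181b1a15141716111013120d0c0f0e09080b0a05040706010003021e1f1c1d1a1b181916171415121310110e0f0c0d0a0b080906070405020300010f0e0d0c0b0a090807060504030201001f1e1d1c1b1a19181716151413121110 (32 * s + i))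
    (by norm_num) (by decide +kernel) (by decide +kernel)

theorem compl_T : Complete (gcode : GL12 → ℕ) TB 128 tT :=
  C12.complete_of_closed (J := fun s i => fld 8 255 0x5c5d5e5f5a5b585955545756535251504c4d4e4f4a4b484945444746434241407c7d7e7f7a7b787975747776737271706c6d6e6f6a6b686965646766636261601c1d1e1f1a1b181915141716131211100c0d0e0f0a0b080905040706030201003c3d3e3f3a3b383935343736333231302c2d2e2f2a2b28292524272623222120666765646a6b69686e6f6d6c62636160767775747a7b79787e7f7d7c72737170464745444a4b49484e4f4d4c42434140565755545a5b59585e5f5d5c52535150262725242a2b29282e2f2d2c22232120363735343a3b39383e3f3d3c32333130060705040a0b09080e0f0d0c02030100161715141a1b19181e1f1d1c121311107b7a79787f7e7d7c73727170777675746b6a69686f6e6d6c63626160676665645b5a59585f5e5d5c53525150575655544b4a49484f4e4d4c43424140474645443b3a39383f3e3d3c33323130373635342b2a29282f2e2d2c23222120272625241b1a19181f1e1d1c13121110171615140b0a09080f0e0d0c03020100070605043f3e3d3c3b3a393837363534333231302f2e2d2c2b2a292827262524232221201f1e1d1c1b1a191817161514131211100f0e0d0c0b0a090807060504030201007f7e7d7c7b7a797877767574737271706f6e6d6c6b6a696867666564636261605f5e5d5c5b5a595857565554535251504f4e4d4c4b4a49484746454443424140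 (128 * s + i))
    (by norm_num) (by decide +kernel) (by decide +kernel)

theorem compl_S : Complete (gcode : GL12 → ℕ) SB 256 tS :=
  C12.complete_of_closed (J := fun s i => fld 8 255 0x7f7e77767b7a73727d7c7574797871705f5e57565b5a53525d5c5554595851506f6e67666b6a63626d6c6564696861604f4e47464b4a43424d4c4544494841403f3e37363b3a33323d3c3534393831301f1e17161b1a13121d1c1514191811102f2e27262b2a23222d2c2524292821200f0e07060b0a03020d0c050409080100fffef7f6fbfaf3f2fdfcf5f4f9f8f1f0dfded7d6dbdad3d2dddcd5d4d9d8d1d0efeee7e6ebeae3e2edece5e4e9e8e1e0cfcec7c6cbcac3c2cdccc5c4c9c8c1c0bfbeb7b6bbbab3b2bdbcb5b4b9b8b1b09f9e97969b9a93929d9c959499989190afaea7a6abaaa3a2adaca5a4a9a8a1a08f8e87868b8a83828d8c858489888180dcdddedfdadbd8d9d5d4d7d6d3d2d1d0cccdcecfcacbc8c9c5c4c7c6c3c2c1c0fcfdfefffafbf8f9f5f4f7f6f3f2f1f0ecedeeefeaebe8e9e5e4e7e6e3e2e1e09c9d9e9f9a9b989995949796939291908c8d8e8f8a8b88898584878683828180bcbdbebfbabbb8b9b5b4b7b6b3b2b1b0acadaeafaaaba8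a9a5a4a7a6a3a2a1a05c5d5e5f5a5b585955545756535251504c4d4e4f4a4b484945444746434241407c7d7e7f7a7b787975747776737271706c6d6e6f6a6b686965646766636261601c1d1e1f1a1b181915141716131211100c0d0e0f0a0b080905040706030201003c3d3e3f3a3b383935343736333231302c2d2e2f2a2b28292524272623222120e6e7e5e4eaebe9e8eeefedece2e3e1e0f6f7f5f4fafbf9f8fefffdfcf2f3f1f0c6c7c5c4cacbc9c8cecfcdccc2c3c1c0d6d7d5d4dadbd9d8dedfdddcd2d3d1d0a6a7a5a4aaaba9a8aeafadaca2a3a1a0b6b7b5b4babbb9b8bebfbdbcb2b3b1b0868785848a8b89888e8f8d8c82838180969795949a9b99989e9f9d9c92939190666765646a6b69686e6f6d6c62636160767775747a7b79787e7f7d7c72737170464745444a4b49484e4f4d4c42434140565755545a5b59585e5f5d5c52535150262725242a2b29282e2f2d2c22232120363735343a3b39383e3f3d3c32333130060705040a0b09080e0f0d0c02030100161715141a1b19181e1f1d1c12131110fbfaf9f8fffefdfcf3f2f1f0f7f6f5f4ebeae9e8efeeedece3e2e1e0e7e6e5e4dbdad9d8dfdedddcd3d2d1d0d7d6d5d4cbcac9c8cfcecdccc3c2c1c0c7c6c5c4bbbab9b8bfbebdbcb3b2b1b0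b7b6b5b4abaaa9a8afaeadaca3a2a1a0a7a6a5a49b9a99989f9e9d9c93929190979695948b8a89888f8e8d8c83828180878685847b7a79787f7e7d7c73727170777675746b6a69686f6e6d6c63626160676665645b5a59585f5e5d5c53525150575655544b4a49484f4e4d4c43424140474645443b3a39383f3e3d3c33323130373635342b2a29282f2e2d2c23222120272625241b1a19181f1e1d1c13121110171615140b0a09080f0e0d0c0302010007060504bfbebdbcbbbab9b8b7b6b5b4b3b2b1b0afaeadacabaaa9a8a7a6a5a4a3a2a1a09f9e9d9c9b9a999897969594939291908f8e8d8c8b8a89888786858483828180fffefdfcfbfaf9f8f7f6f5f4f3f2f1f0efeeedecebeae9e8e7e6e5e4e3e2e1e0dfdedddcdbdad9d8d7d6d5d4d3d2d1d0cfcecdcccbcac9c8c7c6c5c4c3c2c1c03f3e3d3c3b3a393837363534333231302f2e2d2c2b2a292827262524232221201f1e1d1c1b1a191817161514131211100f0e0d0c0b0a090807060504030201007f7e7d7c7b7a797877767574737271706f6e6d6c6b6a696867666564636261605f5e5d5c5b5a595857565554535251504f4e4d4c4b4a49484746454443424140 (256 * s + i))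
    (by norm_num) (by decide +kernel) (by decide +kernel)

theorem LA_eq : ∀ n < 4, lget LA n = eE n ∧ lget LA (n + 4) = mm (eE n) a45 := by decide +kernel

theorem tZ_eq : ∀ n < 16, tZ n = eE n ∧ tZ (n + 16) = mm xS (eE n) := by decide +kernel

theorem of_mem {H : Subgroup GL12} {g : GL12} {c : ℕ} (h : Mem gcode H c) (e : gcode g = c) : g ∈ H :=
  C12.mem_iff.1 (e ▸ h)

theorem sv_code (g : GL12) {v : ℕ} (hv : v < 4096) : sv g v = vcode (g • vdec 12 v) := by
  rw [← ac_code, vcode_vdec (n := 12) hv]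

theorem gen_ind {L : List ℕ} {Q : GL12 → Prop} (h1 : Q 1) (hm : ∀ g k, Q g → Q k → Q (g * k))
    (hs : ∀ c ∈ L, ∀ s, gcode s = c → Q s) : ∀ g ∈ gen gcode L, Q g :=
  gen_induction h1 fun _ hj s e g hg => hm s g (hs _ (lget_mem hj) s e) hg

theorem f3_xor (u u' k : ℕ) : fld 3 7 (u ^^^ u') k = fld 3 7 u k ^^^ fld 3 7 u' k := by
  simp only [fld_eq, Nat.shiftRight_xor_distrib, Nat.and_xor_distrib_right]

theorem f3_lt (u k : ℕ) : fld 3 7 u k < 8 := Nat.lt_succ_of_le (fld_le ..)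

theorem par3_xor : ∀ a < 8, ∀ a' < 8, ∀ b < 8, par3 (Nat.land (a ^^^ a') b) =
    par3 (Nat.land a b) ^^^ par3 (Nat.land a' b) ∧ par3 (Nat.land b (a ^^^ a')) =
    par3 (Nat.land b a) ^^^ par3 (Nat.land b a') := by decide +kernel

theorem beq_false {a b : ℕ} (h : a ≠ b) : Nat.beq a b = false :=
  Bool.eq_false_iff.2 fun e => h (eq_of_beq e)

theorem par3_lt (x : ℕ) : par3 x < 2 := by
  rw [par3, bit_eq]; split_ifs <;> norm_num

end ApiG

open ApiG

theorem top_gY : ∀ c ∈ gY, Mem (gcode : GL12 → ℕ) ⊤ c := fun c hc => top_all c (List.mem_append_left _ hc)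

theorem top_more : ∀ c ∈ [a34, a35, x35, xZ], Mem (gcode : GL12 → ℕ) ⊤ c := fun c hc =>
  top_all c (List.mem_append_right _ hc)

theorem mem_AB (g : GL12) : g ∈ AB ↔ ∃ n < 4, gcode g = eE n ∨ gcode g = mm (eE n) a45 := by
  refine ⟨fun h => ?_, fun ⟨n, hn, e⟩ => e.elim (fun e => of_mem (sound_A n (by omega)) (e.trans (LA_eq n hn).1.symm))
    fun e => of_mem (sound_A (n + 4) (by omega)) (e.trans (LA_eq n hn).2.symm)⟩
  obtain ⟨k, hk, e⟩ := compl_A g h
  by_cases h4 : k < 4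
  · exact ⟨k, h4, .inl (e.trans (LA_eq k h4).1)⟩
  · obtain ⟨n, rfl⟩ : ∃ n, k = n + 4 := ⟨k - 4, by omega⟩
    exact ⟨n, by omega, .inr (e.trans (LA_eq n (by omega)).2)⟩

theorem mem_EB (g : GL12) : g ∈ EB ↔ ∃ n < 16, gcode g = eE n :=
  ⟨compl_E g, fun ⟨n, _, e⟩ => of_mem (mem_eE (gen_mem (by decide)) n) e⟩

theorem mem_ZB (g : GL12) : g ∈ ZB ↔ ∃ n < 16, gcode g = eE n ∨ gcode g = mm xS (eE n) := by
  refine ⟨fun h => ?_, fun ⟨n, hn, e⟩ => e.elim (fun e => of_mem (sound_Z n (by omega)) (e.trans (tZ_eq n hn).1.symm))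
    fun e => of_mem (sound_Z (n + 16) (by omega)) (e.trans (tZ_eq n hn).2.symm)⟩
  obtain ⟨k, hk, e⟩ := compl_Z g h
  by_cases h4 : k < 16
  · exact ⟨k, h4, .inl (e.trans (tZ_eq k h4).1)⟩
  · obtain ⟨n, rfl⟩ : ∃ n, k = n + 16 := ⟨k - 16, by omega⟩
    exact ⟨n, by omega, .inr (e.trans (tZ_eq n (by omega)).2)⟩

theorem mem_TB (g : GL12) : g ∈ TB ↔ ∃ m < 128, gcode g = tT m :=
  ⟨compl_T g, fun ⟨m, _, e⟩ => of_mem (mem_tT m) e⟩

theorem mem_SB (g : GL12) : g ∈ SB ↔ ∃ m < 256, gcode g = tS m :=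
  ⟨compl_S g, fun ⟨m, _, e⟩ => of_mem (mem_tS m) e⟩

theorem top_tS {m : ℕ} (hm : m < 256) : Mem (gcode : GL12 → ℕ) SB (tS m) := let _ := hm; mem_tS m

theorem top_tT {m : ℕ} (hm : m < 128) : Mem (gcode : GL12 → ℕ) TB (tT m) := let _ := hm; mem_tT m

theorem top_eE {n : ℕ} (hn : n < 16) : Mem (gcode : GL12 → ℕ) EB (eE n) := let _ := hn; mem_eE (gen_mem (by decide)) n

theorem le_chain : AB ≤ TB ∧ EB ≤ ZB ∧ ZB ≤ TB ∧ TB ≤ MB ∧ TB ≤ SB ∧ MB ≤ YA ∧ YA ≤ YS ∧ SB ≤ YS := by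
  refine ⟨C12.gen_le fun c hc => ?_, gen_mono (by decide), C12.gen_le fun c hc => ?_, gen_mono (by decide),
    gen_mono (by decide), gen_mono (by decide), gen_mono (by decide), gen_mono (by decide)⟩
  · have : ∀ c ∈ gB, c ∈ gE ∨ c ∈ gT := by decide
    exact (this c hc).elim (gE_TB c) (gT_mem c)
  · have : ∀ c ∈ gZ, c ∈ gE ∨ c ∈ gT := by decide
    exact (this c hc).elim (gE_TB c) (gT_mem c)

theorem cards : Nat.card AB = 8 ∧ Nat.card ZB = 32 ∧ Nat.card TB = 128 ∧ Nat.card SB = 256 :=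
  ⟨C12.card_eq sound_A compl_A (injB_spec (σ := fld 8 255 0x706050403020100) (by decide +kernel)),
  C12.card_eq sound_Z compl_Z (injB_spec (σ := fld 8 255 0x1f1b17131e1a16120f0b07030e0a06021d1915111c1814100d0905010c080400) (by decide +kernel)),
  C12.card_eq (fun m _ => mem_tT m) compl_T (injB_spec (σ := fld 8 255 0x7d7b74727c7a75736c6a65636d6b64623d3b34323c3a35332c2a25232d2b24227e7877717f7976706e6867616f6966603e3837313f3936302e2827212f2926205e5a56525f5b57534f4b47434e4a46421e1a16121f1b17130f0b07030e0a06025d5955515c5854504d4945414c4844401d1915111c1814100d0905010c080400) (by decide +kernel)),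
  C12.card_eq (fun m _ => mem_tS m) compl_S (injB_spec (σ := fld 8 255 0x7d7b74727c7a75736c6a65636d6b64623d3b34323c3a35332c2a25232d2b24227e7877717f7976706e6867616f6966603e3837313f3936302e2827212f2926205e5a56525f5b57534f4b47434e4a46421e1a16121f1b17130f0b07030e0a06025d5955515c5854504d4945414c4844401d1915111c1814100d0905010c080400fbf8f7f4faf9f6f5dad9d6d5dbd8d7d4bbb8b7b4bab9b6b59a9996959b989794fefdf2f1fffcf3f0deddd2d1dfdcd3d0bebdb2b1bfbcb3b09e9d92919f9c9390eeeceae8efedebe9cfcdcbc9cecccac8aeacaaa8afadaba98f8d8b898e8c8a88e7e5e3e1e6e4e2e0c7c5c3c1c6c4c2c0a7a5a3a1a6a4a2a08785838186848280) (by decide +kernel))⟩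

namespace ApiG

theorem sv_lt' (g : GL12) (v : ℕ) : sv g v < 4096 := by rw [sv, ac_def]; exact ok12.act_lt _ _

theorem sv_mul' (g k : GL12) {v : ℕ} (hv : v < 4096) : sv (g * k) v = sv g (sv k v) := by
  rw [sv_code _ hv, sv_code k hv, sv, ac_code, mul_smul]

theorem sv_one' {v : ℕ} (hv : v < 4096) : sv 1 v = v := by rw [sv_code _ hv, one_smul, vcode_vdec (n := 12) hv]

theorem iso_mul {g k : GL12} (hg : Iso g) (hk : Iso k) : Iso (g * k) := fun v hv => by
  rw [sv_mul' g k hv, hg _ (sv_lt' ..), hk v hv]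

theorem p2_mul {g k : GL12} (hg : P2 g) (hk : P2 k) : P2 (g * k) := fun v hv h => by
  rw [sv_mul' g k hv]; exact hg _ (sv_lt' ..) (hk v hv h)

theorem chk_iso : lall (fun c => allLt2 (fun v => Nat.beq (force (ac c v) Qf) (Qf v)) 64 64) gY = true := by
  decide +kernel

theorem chk_p2 : lall (fun c => allLt2 (fun v => !Nat.beq (Nat.land v 0xe38) 0 ||
    Nat.beq (Nat.land (ac c v) 0xe38) 0) 64 64) gM = true := by decide +kernel

theorem chk_fix : allLt (fun i => Nat.beq i 0 || force (lget LA i) fun a => allLt2 (fun v =>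
    cond (Nat.beq (Nat.land v 0xe38) 0) (Nat.beq (ac a v) v) (!Nat.beq (ac a v) v ||
      allLt (fun j => Nat.beq j 0 || Nat.beq j i || !Nat.beq (ac (lget LA j) v) v) 8)) 64 64) 8 = true := by
  decide +kernel

end ApiG

theorem iso_YS {g : GL12} (hg : g ∈ YS) : Iso g :=
  gen_ind (fun v hv => by rw [sv_one' hv]) (fun _ _ => iso_mul) (fun c hc s e v hv => by
    have := eq_of_beq (allLt2_iff.1 (lall_iff.1 chk_iso c hc) v hv)
    rwa [force_eq, ← e] at this) g hg

theorem P2_MB {g : GL12} (hg : g ∈ MB) : P2 g :=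
  gen_ind (fun v hv h => by rwa [sv_one' hv]) (fun _ _ => p2_mul) (fun c hc s e v hv h => by
    have := allLt2_iff.1 (lall_iff.1 chk_p2 c hc) v hv
    rw [show Nat.land v 0xe38 = 0 from h, ← e] at this
    exact eq_of_beq this) g hg

theorem Iso.mul {g k : GL12} (hg : Iso g) (hk : Iso k) : Iso (g * k) := iso_mul hg hk

theorem Iso.inv {g : GL12} (hg : Iso g) : Iso g⁻¹ := fun v hv => by
  rw [← hg _ (sv_lt' ..), ← sv_mul' _ _ hv, mul_inv_cancel, sv_one' hv]

namespace ApiG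

theorem sv_xor' (g : GL12) {u v : ℕ} (hu : u < 4096) (hv : v < 4096) : sv g (u ^^^ v) = sv g u ^^^ sv g v := by
  rw [sv_code _ (Nat.xor_lt_two_pow (n := 12) hu hv), sv_code _ hu, sv_code _ hv, vdec_xor, smul_add, vcode_add]

theorem bt_xor1 (u u' v : ℕ) : bt (u ^^^ u') v = bt u v ^^^ bt u' v := by
  simp only [bt, f3_xor]
  rw [(par3_xor _ (f3_lt ..) _ (f3_lt ..) _ (f3_lt ..)).1, (par3_xor _ (f3_lt ..) _ (f3_lt ..) _ (f3_lt ..)).1]
  exact J4P.xor4 ..

theorem bt_xor2 (u v v' : ℕ) : bt u (v ^^^ v') = bt u v ^^^ bt u v' := by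
  simp only [bt, f3_xor]
  rw [(par3_xor _ (f3_lt ..) _ (f3_lt ..) _ (f3_lt ..)).2, (par3_xor _ (f3_lt ..) _ (f3_lt ..) _ (f3_lt ..)).2]
  exact J4P.xor4 ..

theorem Qf_xor' (u v : ℕ) : Qf (u ^^^ v) = Qf u ^^^ Qf v ^^^ Bf u v := by
  rw [Qf, bt_xor1, bt_xor2, bt_xor2]
  change _ = bt u u ^^^ bt v v ^^^ (bt u v ^^^ bt v u)
  ac_rfl

end ApiG

theorem Iso.bf {g : GL12} (hg : Iso g) {u v : ℕ} (hu : u < 4096) (hv : v < 4096) :
    Bf (sv g u) (sv g v) = Bf u v := by
  have h1 := hg _ (Nat.xor_lt_two_pow (n := 12) hu hv)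
  rw [sv_xor' g hu hv, Qf_xor', Qf_xor', hg u hu, hg v hv] at h1
  exact Nat.xor_right_injective h1

theorem P2.mul {g k : GL12} (hg : P2 g) (hk : P2 k) : P2 (g * k) := p2_mul hg hk

theorem P2.inv {g : GL12} (hg : P2 g) : P2 g⁻¹ := by
  have h : ∀ n : ℕ, P2 (g ^ n) := fun n => by
    induction n with
    | zero => exact fun v hv h => by rwa [pow_zero, sv_one' hv]
    | succ n ih => rw [pow_succ]; exact p2_mul ih hg
  have : g⁻¹ = g ^ (orderOf g - 1) := inv_eq_of_mul_eq_one_left (by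
    rw [← pow_succ, Nat.sub_add_cancel (orderOf_pos g), pow_orderOf_eq_one])
  exact this ▸ h _

theorem sv_lt (g : GL12) (v : ℕ) : sv g v < 4096 := sv_lt' g v

theorem sv_xor (g : GL12) {u v : ℕ} (hu : u < 4096) (hv : v < 4096) :
    sv g (u ^^^ v) = sv g u ^^^ sv g v := sv_xor' g hu hv

theorem sv_mul (g k : GL12) {v : ℕ} (hv : v < 4096) : sv (g * k) v = sv g (sv k v) := sv_mul' g k hv

theorem sv_one {v : ℕ} (hv : v < 4096) : sv 1 v = v := sv_one' hv

theorem sv_ext {g k : GL12} (h : ∀ j < 12, sv g (2 ^ j) = sv k (2 ^ j)) : g = k := by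
  have h1 := lin_ext (n := 12) (f := sv g) (g := sv k) (fun _ ha _ hb => sv_xor' g ha hb)
    (fun _ ha _ hb => sv_xor' k ha hb) h
  refine Units.ext (Matrix.ext_of_mulVec_single fun i => vcode_injective ?_)
  have := h1 _ (vcode_lt (Pi.single i 1))
  rwa [sv, sv, ac_code, ac_code] at this

theorem bt_xor (u u' v : ℕ) : bt (u ^^^ u') v = bt u v ^^^ bt u' v := bt_xor1 u u' v

theorem bt_xor' (u v v' : ℕ) : bt u (v ^^^ v') = bt u v ^^^ bt u v' := bt_xor2 u v v'

theorem bt_lt (u v : ℕ) : bt u v < 2 := Nat.xor_lt_two_pow (n := 1) (par3_lt _) (par3_lt _)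

theorem Qf_xor (u v : ℕ) : Qf (u ^^^ v) = Qf u ^^^ Qf v ^^^ Bf u v := Qf_xor' u v

/-- the common fixed vectors of two different non-trivial elements of `AB` -/
theorem fix_AB {a b : GL12} (ha : a ∈ AB) (hb : b ∈ AB) (h1 : a ≠ 1) (h2 : b ≠ 1) (h3 : a ≠ b) {v : ℕ}
    (hv : v < 4096) : (sv a v = v ∧ sv b v = v) ↔ v &&& 0xe38 = 0 := by
  obtain ⟨i, hi, e⟩ := compl_A a ha
  obtain ⟨j, hj, e'⟩ := compl_A b hb
  have n0 : ∀ {x : GL12} {i}, gcode x = lget LA i → x ≠ 1 → Nat.beq i 0 = false := fun {x i} e h =>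
    beq_false fun h0 => h (C12.inj (by rw [e, h0, C12.map_one]; rfl))
  have k1 := allLt_iff.1 chk_fix i hi
  have k2 := allLt_iff.1 chk_fix j hj
  rw [n0 e h1, Bool.false_or, force_eq, ← e] at k1
  rw [n0 e' h2, Bool.false_or, force_eq, ← e'] at k2
  have k3 := allLt2_iff.1 k1 v hv
  have k4 := allLt2_iff.1 k2 v hv
  refine ⟨fun h => ?_, fun h => ?_⟩
  · by_contra hc
    rw [beq_false (show Nat.land v 0xe38 ≠ 0 from hc), cond_false, show ac (gcode a) v = v from h.1,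
      Nat.beq_refl, Bool.not_true, Bool.false_or] at k3
    have k5 := allLt_iff.1 k3 j hj
    rw [n0 e' h2, beq_false (show j ≠ i from fun h0 => h3 (C12.inj (by rw [e, e', h0]))), ← e',
      show ac (gcode b) v = v from h.2, Nat.beq_refl] at k5
    exact absurd k5 (by decide)
  · rw [show Nat.land v 0xe38 = 0 from h] at k3 k4
    exact ⟨eq_of_beq k3, eq_of_beq k4⟩

/-- an element normalising `AB` -/
theorem P2_of_norm {g : GL12} (h : ∀ a ∈ AB, g * a * g⁻¹ ∈ AB) : P2 g := fun v hv h0 => by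
  have m1 := sound_A 1 (by norm_num)
  have m2 := sound_A 2 (by norm_num)
  have n1 : E12 (lget LA 1) ≠ 1 := fun e => absurd (elt_inj m1 (C12.mem_one ⊤) (e.trans C12.elt_one.symm)) (by decide)
  have n2 : E12 (lget LA 2) ≠ 1 := fun e => absurd (elt_inj m2 (C12.mem_one ⊤) (e.trans C12.elt_one.symm)) (by decide)
  have n3 : E12 (lget LA 1) ≠ E12 (lget LA 2) := fun e => absurd (elt_inj m1 m2 e) (by decide)
  have k := (fix_AB (C12.elt_mem m1) (C12.elt_mem m2) n1 n2 n3 hv).2 h0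
  have e : ∀ a : GL12, sv a v = v → sv (g * a * g⁻¹) (sv g v) = sv g v := fun a ha => by
    rw [← sv_mul' _ _ hv, inv_mul_cancel_right, sv_mul' _ _ hv, ha]
  exact (fix_AB (h _ (C12.elt_mem m1)) (h _ (C12.elt_mem m2)) (by simpa using n1) (by simpa using n2)
    (by simpa using n3) (sv_lt' ..)).1 ⟨e _ k.1, e _ k.2⟩

theorem norm_AB {g a : GL12} (hg : g ∈ MB) (ha : a ∈ AB) : g * a * g⁻¹ ∈ AB := by
  have chk : lall (fun c => allLt (fun i => anyLt (fun j => Nat.beq (mm c (lget LA i)) (mm (lget LA j) c)) 8) 8)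
      gM = true := by decide +kernel
  have : MB ≤ normalizer (AB : Set GL12) := (closure_le _).2 fun s hs => mem_normalizer_fintype fun x hx => by
    obtain ⟨i, hi, e⟩ := compl_A x hx
    obtain ⟨j, hj, e'⟩ := anyLt_iff.1 (allLt_iff.1 (lall_iff.1 chk _ hs) i hi)
    obtain ⟨y, hy, e2⟩ := sound_A j hj
    have := eq_of_beq e'
    rw [← e, ← e2, C12.map_mul, C12.map_mul] at this
    rwa [C12.inj this, mul_inv_cancel_right]
  exact (mem_normalizer_iff.1 (this hg) a).1 ha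

/-- `Z(TB) = ⟨σ, a34⟩` -/
theorem center_TB {g : GL12} (hg : g ∈ TB) (h : ∀ t ∈ TB, t * g = g * t) :
    gcode g = c1 ∨ gcode g = xS ∨ gcode g = a34 ∨ gcode g = mm xS a34 := by
  have chk : allLt (fun m => force (tT m) fun x => !commB mm gT x || (Nat.beq x c1 || (Nat.beq x xS ||
      (Nat.beq x a34 || Nat.beq x (mm xS a34))))) 128 = true := by decide +kernel
  obtain ⟨m, hm, e⟩ := compl_T g hg
  have k := allLt_iff.1 chk m hm
  have k1 : commB mm gT (gcode g) = true := lall_iff.2 fun c hc => by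
    obtain ⟨t, ht, rfl⟩ := gT_mem c hc
    rw [C12.map_mul, C12.map_mul, h t ht, Nat.beq_refl]
  rw [force_eq, ← e, k1] at k
  simpa only [Bool.not_true, Bool.false_or, Bool.or_eq_true, Nat.beq_eq] using k

/-- `z̄ ∈ [Q̄, u]` for `u ∈ L_z`, `u ≠ 1` -/
theorem z_mem_ZB {u : GL12} (hu : u ∈ ZB) (h1 : u ≠ 1) : ∃ w < 4096, sv u w ^^^ w = 1 := by
  have chk : ∀ m < 32, m = 0 ∨ Nat.xor (ac (tZ m) (fld 8 255 0x202020204040404020202021020104002020202040404040202020210201000 m))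
      (fld 8 255 0x202020204040404020202021020104002020202040404040202020210201000 m) = 1 := by decide +kernel
  obtain ⟨m, hm, e⟩ := compl_Z u hu
  rcases chk m hm with rfl | h
  · exact absurd (C12.inj (by rw [e, C12.map_one]; decide +kernel)) h1
  · exact ⟨_, (fld_le 8 255 _ m).trans_lt (by norm_num), by rw [sv, e]; exact h⟩

end CL.T10
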