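import Cfsg.Agent.SPOR.T10.Model
import Cfsg.Agent.SPOR.LE.NW

/-!
Frames for a 2-local subgroup `N = 2 ^ 10 : L5(2)`. `s = e1 ∧ e2`, `Q = 2 ^ (1 + 12) ≤ N`,
`Q / ⟨s⟩ = W ⊗ O`, `W = ⟨e1, e2⟩`, `O = ⟨e3, e4, e5, e3*, e4*, e5*⟩`; bit `6 * w + k` is
`e_(w+1) ⊗ (basis vector k of O)`. The part `W ⊗ ⟨e3, e4, e5⟩` is `(W ∧ V) / ⟨s⟩`, and `e_i ⊗ e_j*` is
the transvection `t_ij`.
-/

set_option autoImplicit false
set_option maxRecDepth 100000

namespace CL.T10

open CL.K CL.CG CL.F2M CL.F24 CL.LX CL.MSS Subgroup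
open CL.J4P (Kv)

attribute [local irreducible] gcode vcode

/-- parity of a number below 8 -/
def par3 (x : ℕ) : ℕ := bit 0x96 x
/-- `q u * q v = q (u ^^^ v) * s ^ bt u v` -/
def bt (u v : ℕ) : ℕ :=
  Nat.xor (par3 (Nat.land (fld 3 7 u 1) (fld 3 7 v 2))) (par3 (Nat.land (fld 3 7 u 3) (fld 3 7 v 0)))
/-- the quadratic form (squaring) -/
def Qf (v : ℕ) : ℕ := bt v v
/-- the bilinear form (commutators) -/
def Bf (u v : ℕ) : ℕ := Nat.xor (bt u v) (bt v u)
/-- spread three bits to the places 0, 5, 10 -/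
def sp3 (x : ℕ) : ℕ := Nat.land (Nat.mul x 0x111) 0x421
/-- code of the element of `Q` with coordinate `v` and even code -/
def qc (v : ℕ) : ℕ :=
  nc (Nat.add (Nat.mul 2 (fld 3 7 v 0)) (Nat.mul 16 (fld 3 7 v 2)))
    (Nat.add i5 (Nat.add (Nat.mul 1024 (sp3 (fld 3 7 v 1))) (Nat.mul 2048 (sp3 (fld 3 7 v 3)))))
/-- code of `s` -/
def cs : ℕ := 0x410410401
/-- code of `z = e1 ∧ e3` -/
def cz : ℕ := 0x410410402
/-- generators of `Q` -/
def LQ : List ℕ := [qc 1, qc 2, qc 4, qc 8, qc 16, qc 32, qc 64, qc 128, qc 256, qc 512, qc 1024, qc 2048]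
/-- generators of the Sylow 2-subgroup `T` (unitriangular linear part) -/
def LTN : List ℕ := [nc 512 i5, nc 0 (tv 1 2), nc 0 (tv 2 3), nc 0 (tv 3 4), nc 0 (tv 4 5)]
/-- the element with code `c` centralises `s` and acts on `Q / ⟨s⟩` as the matrix `X` -/
noncomputable def kvB (c X : ℕ) : Bool :=
  isN c && (Nat.beq (nm c cs) (nm cs c) && (blt X (2 ^ 144) && allLt (fun j =>
    force (nm c (qc (2 ^ j))) fun y => force (qc (ac X (2 ^ j))) fun w =>
      Nat.beq y (nm w c) || Nat.beq y (nm (Nat.succ w) c)) 12))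
/-- decomposable non-zero elements of `Λ² V` -/
noncomputable def dec2 (a : ℕ) : Bool :=
  !Nat.beq a 0 && anyLt (fun u => anyLt (fun v => Nat.beq (wd u v) a) 32) 32

/-- `σ = t12` on `W ⊗ O` -/
def xS : ℕ := 0x820410208104082041020010008004002001
/-- `d = d12` -/
def xD : ℕ := 0x820410208104082041800400200100080040
/-- `t34` -/
def x34 : ℕ := 0x8004006001000c0040020010018004003001
/-- `t35` -/
def x35 : ℕ := 0x800400a00140080040020010028005002001
/-- `t45` -/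
def x45 : ℕ := 0x800c00200180080040020030008006002001
/-- `t43` -/
def x43 : ℕ := 0x8006002001000800c0020018008004002003
/-- `t54` -/
def x54 : ℕ := 0xc00400200100180040030010008004006001
/-- `e3 ∧ e4` -/
def a34 : ℕ := 0x80044028010008004002001100a004002001
/-- `e3 ∧ e5` -/
def a35 : ℕ := 0x84040030010008004002101000c004002001
/-- `e4 ∧ e5` -/
def a45 : ℕ := 0x880500200100080040022014008004002001
/-- the root element opposite to `a45`: `e4 ↦ e4 + e5*`, `e5 ↦ e5 + e4*` -/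
def xY : ℕ := 0x800400200500880040020010008014022001
/-- `e5 ↔ e5*` -/
def xT : ℕ := 0x100400200800080040004010008020002001
/-- `e3* ↦ e3* + e3` -/
def xZ : ℕ := 0x800400240100080040020010009004002001

/-- generators of the image of `A` -/
def gB : List ℕ := [a34, a35, a45]
/-- generators of the image of `T` (order 128) -/
def gT : List ℕ := [xS, x34, x45, a45]
/-- the same and `xT` (order 256) -/
def gS : List ℕ := [xS, x34, x45, a45, xT]
/-- generators of the image `S3 × 2 ^ 3 : L3(2)` of `C_N(s)` -/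
def gM : List ℕ := [xS, xD, x34, x45, x43, x54, a45]
/-- generators of `S3 × A8` -/
def gA : List ℕ := [xS, xD, x34, x45, x43, x54, a45, xY]
/-- generators of `S3 × S8` -/
def gY : List ℕ := [xS, xD, x34, x45, x43, x54, a45, xY, xT]
/-- generators of `E16` -/
def gE : List ℕ := [a34, a35, x34, x35]
/-- generators of `L_z = ⟨σ⟩ × E16` -/
def gZ : List ℕ := [xS, a34, a35, x34, x35]

/-- image of `A` -/
abbrev AB : Subgroup GL12 := gen gcode gB
/-- image of `T` -/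
abbrev TB : Subgroup GL12 := gen gcode gT
/-- Sylow 2-subgroup of `S3 × S8` -/
abbrev SB : Subgroup GL12 := gen gcode gS
/-- image of `C_N(s)` -/
abbrev MB : Subgroup GL12 := gen gcode gM
/-- `S3 × A8` -/
abbrev YA : Subgroup GL12 := gen gcode gA
/-- `S3 × S8` -/
abbrev YS : Subgroup GL12 := gen gcode gY
/-- `E16` -/
abbrev EB : Subgroup GL12 := gen gcode gE
/-- `L_z` -/
abbrev ZB : Subgroup GL12 := gen gcode gZ
/-- the element with a given code -/
noncomputable abbrev E12 (c : ℕ) : GL12 := elt gcode c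

/-- action on codes of vectors -/
noncomputable abbrev sv (g : GL12) (v : ℕ) : ℕ := ac (gcode g) v
/-- `g` preserves the quadratic form -/
def Iso (g : GL12) : Prop := ∀ v < 4096, Qf (sv g v) = Qf v
/-- `g` maps `W ⊗ ⟨e3, e4, e5⟩` into itself -/
def P2 (g : GL12) : Prop := ∀ v < 4096, v &&& 0xe38 = 0 → sv g v &&& 0xe38 = 0
/-- `g` interchanges `W ⊗ ⟨e3, e4, e5⟩` and `W ⊗ ⟨e3, e4, e5*⟩` -/
def Swp (g : GL12) : Prop :=
  ∀ v < 4096, (v &&& 0xe38 = 0 → sv g v &&& 0x71c = 0) ∧ (v &&& 0x71c = 0 → sv g v &&& 0xe38 = 0)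

/-- `L4(2)` -/
abbrev GL4 : Type := GL (Fin 4) (ZMod 2)
theorem ok4 : OK 4 0x1111 15 := ⟨by norm_num, by norm_num, by decide +kernel⟩
/-- product of codes -/
noncomputable def m4 (a b : ℕ) : ℕ := mulC 4 0x1111 15 a b
/-- action on codes -/
noncomputable def a4 (g v : ℕ) : ℕ := act 4 15 g v
theorem C4 : IsCode (gcode : GL4 → ℕ) m4 0x8421 :=
  (show oneC 4 = 0x8421 by decide +kernel) ▸ ok4.isCode
/-- the coordinates at `e2 ⊗ e4, e2 ⊗ e5, e2 ⊗ e4*, e2 ⊗ e5*` -/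
def n4 (v : ℕ) : ℕ := Nat.add (Nat.land (Nat.shiftRight v 7) 3) (Nat.land (Nat.shiftRight v 8) 12)
/-- the block of a matrix at these coordinates: the action on `E16` -/
noncomputable def alf (x : ℕ) : ℕ :=
  Nat.add (Nat.add (n4 (ac x 128)) (Nat.mul 16 (n4 (ac x 256))))
    (Nat.add (Nat.mul 256 (n4 (ac x 1024))) (Nat.mul 4096 (n4 (ac x 2048))))
/-- the element of `E16` with parameter `n < 16` -/
noncomputable def eE (n : ℕ) : ℕ :=
  mm (mm (powC mm c1 a34 (bit n 0)) (powC mm c1 a35 (bit n 1)))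
    (mm (powC mm c1 x34 (bit n 2)) (powC mm c1 x35 (bit n 3)))
/-- the elements of `TB`, `m < 128`; those of `ZB` have `m &&& 48 = 0` -/
noncomputable def tT (m : ℕ) : ℕ :=
  mm (mm (powC mm c1 xS (bit m 6)) (eE (Nat.land m 15)))
    (mm (powC mm c1 x45 (bit m 4)) (powC mm c1 a45 (bit m 5)))
/-- the elements of `SB`, `m < 256` -/
noncomputable def tS (m : ℕ) : ℕ := mm (tT (Nat.land m 127)) (powC mm c1 xT (bit m 7))
/-- the symplectic form on `E16` -/
def B4 (u v : ℕ) : ℕ :=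
  Nat.xor (par3 (Nat.land (Nat.land u 3) (Nat.shiftRight v 2)))
    (par3 (Nat.land (Nat.shiftRight u 2) (Nat.land v 3)))
/-- `S2 × S3`, from `a45, x45, x54` -/
def L12 : List ℕ := [0x9621, 0x8c31, 0xc423]
/-- `S3 × S3`, with `xY` -/
def L36 : List ℕ := [0x9621, 0x8c31, 0xc423, 0x8469]
/-- `S3 wr 2`, with `xT` -/
def L72 : List ℕ := [0x9621, 0x8c31, 0xc423, 0x8469, 0x2481]
/-- `S5` -/
def L120 : List ℕ := [0x9621, 0x8c31, 0xc423, 0x84a5]
/-- the block of `g` lies in the group generated by `L` -/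
def Al (L : List ℕ) (g : GL12) : Prop := Mem (gcode : GL4 → ℕ) (gen gcode L) (alf (gcode g))

/-- the properties of the image of `C(s)` -/
structure XF (X : Subgroup GL12) : Prop where
  le : MB ≤ X
  iso : ∀ g ∈ X, Iso g
  stab : ∀ g ∈ X, P2 g → g ∈ MB
  nz : ∀ g ∈ X, sv g 1 = 1 → ∀ u ∈ ZB, g * u * g⁻¹ ∈ ZB

/-- the case `S5` -/
structure JC (X : Subgroup GL12) : Prop where
  sub : ∀ g ∈ X, sv g 1 = 1 → Al L120 g
  ex : ∃ g ∈ X, sv g 1 = 1 ∧ alf (gcode g) = 0x84a5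

/-- the module -/
abbrev V10 : Type := Fin 10 → ZMod 2
/-- an irreducible representation of degree 10 -/
def IM (r : GL5 →* GL (Fin 10) (ZMod 2)) : Prop :=
  ∀ p : Submodule (ZMod 2) V10, (∀ g, ∀ v ∈ p, r g • v ∈ p) → p = ⊥ ∨ p = ⊤
/-- the fixed space of the element with code `c` -/
noncomputable def Fx (r : GL5 →* GL (Fin 10) (ZMod 2)) (c : ℕ) : Submodule (ZMod 2) V10 :=
  LinearMap.eqLocus (Matrix.mulVecLin (r (E5 c)).1) LinearMap.id
/-- generators of the stabiliser of `⟨e1, e2⟩` -/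
def gP : List ℕ := [tv 1 2, tv 2 1, tv 3 4, tv 4 3, tv 4 5, tv 5 4, tv 2 3]
/-- generators of the stabiliser of `⟨e3, e4, e5⟩` -/
def gP' : List ℕ := [tv 1 2, tv 2 1, tv 3 4, tv 4 3, tv 4 5, tv 5 4, tv 3 2]
/-- an element of order 7 of `GL(e3, e4, e5)` -/
def f7 : ℕ := 0xc82041
/-- the element of `Hom(⟨e3, e4, e5⟩, W)` with parameter `u < 64` -/
def rc (u : ℕ) : ℕ :=
  Nat.add i5 (Nat.add (Nat.mul 1024 (sp3 (fld 3 7 u 0))) (Nat.mul 2048 (sp3 (fld 3 7 u 1))))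

theorem mem_Fx {r : GL5 →* GL (Fin 10) (ZMod 2)} {c : ℕ} {v : V10} : v ∈ Fx r c ↔ r (E5 c) • v = v :=
  Iff.rfl

variable {G : Type*} [Group G]

/-- an extension of `Λ² V` by `L5(2)` -/
structure EX (α : ℕ → G) (π : G →* GL5) : Prop where
  α_xor : ∀ a < 1024, ∀ b < 1024, α (a ^^^ b) = α a * α b
  α_inj : ∀ a < 1024, α a = 1 → a = 0
  surj : Function.Surjective π
  ker : ∀ n, π n = 1 ↔ ∃ a < 1024, α a = n
  conj : ∀ n, ∀ a < 1024, n * α a * n⁻¹ = α (wa (gcode (π n)) a)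

/-- the normaliser of `A` is the model group -/
structure NF (A : Subgroup G) (φ : NT →* G) : Prop where
  inj : Function.Injective φ
  range : φ.range = normalizer (A : Set G)
  mem : ∀ n, φ n ∈ A ↔ n.g = 1

/-- the element with code `c` -/
noncomputable def el (φ : NT →* G) (c : ℕ) : G := φ (elt ncode c)
/-- the element of `A` with code `a` -/
noncomputable def al (φ : NT →* G) (a : ℕ) : G := el φ (nc a i5)
/-- the element of the complement with code `g` -/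
noncomputable def ll (φ : NT →* G) (g : ℕ) : G := el φ (nc 0 g)
/-- `s` -/
noncomputable def sg (φ : NT →* G) : G := el φ cs
/-- `z` -/
noncomputable def zg (φ : NT →* G) : G := el φ cz
/-- the element of `Q` with coordinate `v` -/
noncomputable def qq (φ : NT →* G) (v : ℕ) : G := el φ (qc v)
/-- `Q` -/
noncomputable def Qg (φ : NT →* G) : Subgroup G := (gen ncode LQ).map φ
/-- `T` -/
noncomputable def Tg (φ : NT →* G) : Subgroup G := (gen ncode LTN).map φ
/-- `C(s) ⊓ N(Q)` -/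
noncomputable def H1 (φ : NT →* G) : Subgroup G := centralizer {sg φ} ⊓ normalizer (Qg φ : Set G)

/-- with the action on `Q / ⟨s⟩` -/
structure CF (A : Subgroup G) (φ : NT →* G) (ρ : H1 φ →* GL12) : Prop extends NF A φ where
  conj : ∀ h : H1 φ, ∀ v < 4096, h * qq φ v * (h : G)⁻¹ = qq φ (sv (ρ h) v) ∨
    h * qq φ v * (h : G)⁻¹ = qq φ (sv (ρ h) v) * sg φ

/-- `Q` is a large extraspecial subgroup -/
structure BF (A : Subgroup G) (φ : NT →* G) (ρ : H1 φ →* GL12) : Prop extends CF A φ ρ where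
  lx : LX (Qg φ) (sg φ)

/-- `g` lies in `H1` and its image lies in `Y` -/
def Rm {φ : NT →* G} (ρ : H1 φ →* GL12) (Y : Subgroup GL12) (g : G) : Prop :=
  ∃ hg : g ∈ H1 φ, ρ ⟨g, hg⟩ ∈ Y

/-- the preimage of a subgroup of `GL12` -/
noncomputable def pre {φ : NT →* G} (ρ : H1 φ →* GL12) (Y : Subgroup GL12) : Subgroup G :=
  (Y.comap ρ).map (H1 φ).subtype

theorem mem_pre {φ : NT →* G} {ρ : H1 φ →* GL12} {Y : Subgroup GL12} {g : G} :
    g ∈ pre ρ Y ↔ Rm ρ Y g :=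
  ⟨by rintro ⟨g, h, rfl⟩; exact ⟨g.2, h⟩, fun h => ⟨⟨g, h.1⟩, h.2, rfl⟩⟩

theorem chk_qc : allLt2 (fun v => Nat.beq (nm (qc v) (qc v)) (Nat.add n1 (Qf v))) 64 64 = true := by
  decide +kernel

theorem chk_kv : (kvB (nc 0 (tv 1 2)) xS && kvB (nc 0 d12) xD && kvB (nc 0 (tv 3 4)) x34 &&
    kvB (nc 0 (tv 3 5)) x35 && kvB (nc 0 (tv 4 5)) x45 && kvB (nc 0 (tv 4 3)) x43 &&
    kvB (nc 0 (tv 5 4)) x54 && kvB (nc 128 i5) a34 && kvB (nc 256 i5) a35 && kvB (nc 512 i5) a45) = true := by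
  decide +kernel

theorem chk_alf : alf a45 = 0x9621 ∧ alf x45 = 0x8c31 ∧ alf x54 = 0xc423 ∧ alf xY = 0x8469 ∧
    alf xT = 0x2481 ∧ alf xS = 0x8421 ∧ alf xZ = 0x8421 ∧ eE 3 = mm a34 a35 := by decide +kernel

attribute [irreducible] m4 a4

end CL.T10
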