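import Cfsg.Agent.SPOR.T10.Defs

/-!
Codes for the subgroup `L = 2 ^ (3 + 12)` of the model group.
-/

set_option autoImplicit false
set_option maxRecDepth 100000

namespace CL.T10.J4x

open CL.K CL.CG CL.F2M CL.F24 CL.J4P

attribute [local irreducible] gcode vcode

/-- the element of `Hom(⟨e4, e5⟩, ⟨e1, e2, e3⟩)` with parameter `u < 64` -/
def rl (u : ℕ) : ℕ :=
  Nat.add i5 (Nat.add (Nat.mul 32768 (Nat.land u 7)) (Nat.mul 1048576 (Nat.shiftRight u 3)))
/-- the parameter -/
def ur (g : ℕ) : ℕ :=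
  Nat.add (Nat.land (Nat.shiftRight g 15) 7) (Nat.mul 8 (Nat.land (Nat.shiftRight g 20) 7))
/-- change of basis on `N4` -/
def pp (n : ℕ) : ℕ := fld 4 15 0xabef3276cd895410 n
/-- its inverse -/
def pi (n : ℕ) : ℕ := fld 4 15 0xcd67ef459832ba10 n
/-- coordinate of an element of `A` -/
noncomputable def K1 (a : ℕ) : ℕ := lc (fld 12 4095 0x400100040010000004001000000) 10 a
/-- coordinate of `rl u` -/
noncomputable def K3 (u : ℕ) : ℕ := lc (fld 12 4095 0x600060006900090009) 6 u
/-- section -/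
noncomputable def ia (v : ℕ) : ℕ := lc (fld 10 1023 0x201004008008040100200100802004) 12 v
/-- section -/
noncomputable def iu (v : ℕ) : ℕ := lc (fld 6 63 0x100800080400040200) 12 v
/-- the centre -/
def zc (c : ℕ) : ℕ := Nat.add (Nat.add (Nat.mul 16 (bit c 0)) (Nat.land c 2)) (bit c 2)
/-- its inverse -/
def cz (a : ℕ) : ℕ := Nat.add (Nat.add (bit a 4) (Nat.land a 2)) (Nat.mul 4 (bit a 0))
/-- coordinate in `Q` -/
def qv (a u : ℕ) : ℕ :=
  Nat.add (Nat.add (Nat.land (Nat.shiftRight a 1) 7) (Nat.mul 64 (Nat.land (Nat.shiftRight a 4) 7)))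
    (Nat.add (Nat.add (Nat.mul 16 (bit u 0)) (Nat.mul 32 (bit u 3)))
      (Nat.add (Nat.mul 1024 (bit u 1)) (Nat.mul 2048 (bit u 4))))
/-- coordinate of a code -/
noncomputable def kap (c : ℕ) : ℕ := Nat.xor (K1 (Nat.land c 1023)) (K3 (ur (Nat.shiftRight c 10)))
/-- `e1 ↦ e2 ↦ e3 ↦ e1` -/
def y5 : ℕ := 0x1040482
/-- its inverse -/
def y5i : ℕ := 0x1040824
/-- the inverse of `jy` -/
def jyi : ℕ := 0x80040020010008004002001800400200100
/-- `e2 ↦ e2 + e3` -/
def j32 : ℕ := 0x800400200100880440220110008004002001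
/-- `e1 ↦ e1 + e3` -/
def j31 : ℕ := 0x800400200100080040020010808404202101
/-- table -/
def TAd : ℕ := 0xbafc57cf75fced645798ab64ba46abcfa13f523f25f3723ce324de46de98ed89758984e996d825d6b13c1ae9a19e1af31bd81a58a1241bc38c7927c33e42d326d31827e4489e698d48d6846d526d9f5869e4f97c3e7c724ec8974cb6b126b18da1851a421b7925a452181b6272196f5d3d623d814c7ee3193d5ff985964e9fc7e3c76fa4c85ff6bc3dbcd3f53eaff6d5c46b9faeab7eb197524a2581ba5d27b6bae7279157bdc4e73e918cbdc423f64a8cf56fcbd3cbf623c4af4c32e3fac813f9ea84a5abd5726b75ae75dbedb7c8db96b76f324cfaf9138c316912485a57eadea5de7b697b9f3148129621ed5a8421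
/-- table -/
def JAd : ℕ := 0x6c5c634f5f564c5a6d606f7736396554485269617551646e734344762270202e507253685566625774333471103d13672a2b255d5e08293c173a4a400c3e6a1d1e6b184d4e041c23245828124647412d1415452f305b1b590b373831210d0e353f002627492c054b06191a3b1f010342020f113209070a166967737275746a683c4126435d717770761b342857311923334d6b3e352a464963440d1e4a2f144e36505e2b1f53581d37593b566c3f6e05425c096f4538203a474f5b655f2c620f521701324c5a0664076d1216601000394b5448026603610b2e24115108251522300a5504180e3d132729400c1a1c2d21726a74756977707149583f6b6c767367685b503b5d452c425e5f634666595a6e434d4b3a351f32654e4f5637551b6f47485c623357603c306d2a2441645438394c345336445128400d0f27611d3e15312d23073d26161a1e52202b0e4a21140305222919110113092e1c2f0a000c1006250817021804120b7075766a67717277636c5a6e58746869736566566f5f485c62454960506d3f6b3c6454554f394c5b53353b513a365d612c425e284146433d592340574d4b521f324a4e1b313733242022294714262d44152a13303e2e1c2f380d1921340e1d0c100f272b25080717161a1e18040305121101090b0a000602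
/-- table -/
def TVd : ℕ := 0x820433c10618a082983040ce2820623410221e08204f0404a7820650c102306080889041864820c12c10710e08094d040445820461c1022060821c50404e4820450c10538608190d041423820c11410119208088f041026820863c10328a082989040ce18208114107112083903041422820e12c10430e0808cb040446820640c1023860809890418e4820a21c1062160838470410a2820233410220e0821cd0404e5820451c105392082047041c22820c40c10721a0810cb0410a6820233c105112081983041062820e6241072860828c5041c85820851c10320a0811c70404c5820243410638a08110b041823820622410621e08284f040c45820853c105192082087041c62820c50c10430608388d0408c5820a20c10330a0820cd040487820e61c1032160810c9040c47820a13410609208118f0418a2820412c10610e0819890410e1820c33c10531e0819cb041461820823c10719608288d0404a2820433410620e083849040ce6820c72c10728e08184b0408e4820653c10539a083149040827820c22c10729a0828cf0404a3820e41410538e08398b041486820271410229a0831c7041ca4820613410629e08218b041c41820a61410719a08290f0404c3820e61410520e08198f0410e5820c30c10611e0820cb041c61820a41410239a081949040c27820822c1061060809c70408a482041341030920809850404838204124104186080905041041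
/-- table -/
def JVd : ℕ := 0x2a771a9900000025006d3a0050000018730000289700004b3200006382000060008111001d00000022374d6c0000000000000000000000002e1f3447000000000000000000003e00002c0059450069007e0088009e001500000c00a18b00a50092004000520000000e07758c00000000000000000000003300583d002b001e00008d00a0120000000000000000008a230000a43800002f00004800573b000074009814000b00445e0000957800000000000000000000005c7b000090420013001c0010000a006570000054840000000000000000000000799a00007155003c004f0002000000a68f000068870000000000000000000000212600001636003f00006b004c5a00290000a70019a200000961000004760000000000000000005694728e000000009c7c3049000000000000000000000000009b00314a007a005300660085006f000083004364005d009f0093007f0096000d3520060000000000000000000000002d460803000000000000000000000000000039a391240000000051806e5f00001b170000270f00004e050000620100004167865b00000000897d6a9d000000000000000000000000000000000000000000000000000000000000000000000000000000000000000000000000000000000000000000000000000000000000000000000000000000000000000000000000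
/-- the elements of `S5` on `E16` -/
def TA (i : ℕ) : ℕ := fld 16 65535 TAd i
/-- the elements of `GL(e1, e2, e3)` -/
def TV (i : ℕ) : ℕ := fld 25 33554431 TVd i
/-- the matrix with code `w` normalises `L` and acts as `X` -/
noncomputable def acB (w w' X : ℕ) : Bool :=
  isG w && (isG w' && (Nat.beq (m5 w w') i5 &&
    (allLt2 (fun a => force (wa w a) fun b => blt b 512 && Nat.beq (K1 b) (ac X (K1 a))) 8 64 &&
      allLt (fun u => force (m5 (m5 w (rl u)) w') fun g =>
        Nat.beq g (rl (ur g)) && Nat.beq (K3 (ur g)) (ac X (K3 u))) 64)))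

theorem K1_xor (a b : ℕ) : K1 (a ^^^ b) = K1 a ^^^ K1 b := lc_xor _ _ _ _

theorem K3_xor (a b : ℕ) : K3 (a ^^^ b) = K3 a ^^^ K3 b := lc_xor _ _ _ _

theorem K1_lt (a : ℕ) : K1 a < 4096 :=
  lc_lt (N := 12) (fun _ _ => Nat.lt_succ_of_le Nat.and_le_right) a

theorem K3_lt (a : ℕ) : K3 a < 4096 :=
  lc_lt (N := 12) (fun _ _ => Nat.lt_succ_of_le Nat.and_le_right) a

theorem ur_lt (g : ℕ) : ur g < 64 := by
  have h1 : (g >>> 15) &&& 7 ≤ 7 := Nat.and_le_right
  have h2 : (g >>> 20) &&& 7 ≤ 7 := Nat.and_le_right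
  change ((g >>> 15) &&& 7) + 8 * ((g >>> 20) &&& 7) < 64
  omega

theorem pp_lt (n : ℕ) : pp n < 16 := Nat.lt_succ_of_le Nat.and_le_right

theorem pi_lt (n : ℕ) : pi n < 16 := Nat.lt_succ_of_le Nat.and_le_right

theorem pp_pi : ∀ n < 16, pp (pi n) = n ∧ pi (pp n) = n := by decide +kernel

theorem cz_lt (a : ℕ) : cz a < 8 := by
  have h1 := bit_lt a 4
  have h2 := bit_lt a 0
  have h3 : a &&& 2 ≤ 2 := Nat.and_le_right
  change bit a 4 + (a &&& 2) + 4 * bit a 0 < 8
  omega

theorem zc_tab : ∀ c < 8, zc c < 512 ∧ K1 (zc c) = 0 ∧ cz (zc c) = c ∧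
    ∀ d < 8, zc (c ^^^ d) = zc c ^^^ zc d := by decide +kernel

theorem rl_tab : ∀ u < 64, isG (rl u) = true ∧ ur (rl u) = u ∧ ∀ w < 64, m5 (rl u) (rl w) = rl (u ^^^ w) := by
  have : allLt (fun u => isG (rl u) && (Nat.beq (ur (rl u)) u &&
      allLt (fun w => Nat.beq (m5 (rl u) (rl w)) (rl (Nat.xor u w))) 64)) 64 = true := by decide +kernel
  intro u hu
  have := allLt_iff.1 this u hu
  simp only [Bool.and_eq_true, allLt_iff] at this
  exact ⟨this.1, eq_of_beq this.2.1, fun w hw => eq_of_beq (this.2.2 w hw)⟩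

theorem chkL : allLt (fun u => force (rl u) fun g => force (K3 u) fun k3 => allLt2 (fun a =>
    force (Nat.xor (K1 a) k3) fun k => Nat.beq (wa g a) (Nat.xor a (zc (sqC k))) &&
      (Nat.ble 256 k || (Nat.beq (nc a g) (Nat.add (qc (qv a u)) (bit a 0)) && (blt (qv a u) 4096 &&
        (blt 0 k || (Nat.beq u 0 && Nat.beq a (zc (cz a)))))))) 8 64) 64 = true := by
  decide +kernel

theorem L_tab {a u : ℕ} (ha : a < 512) (hu : u < 64) :
    wa (rl u) a = a ^^^ zc (sqC (K1 a ^^^ K3 u)) ∧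
    (K1 a ^^^ K3 u < 256 → nc a (rl u) = qc (qv a u) + bit a 0 ∧ qv a u < 4096) ∧
    (K1 a ^^^ K3 u = 0 → u = 0 ∧ a = zc (cz a)) := by
  have := allLt_iff.1 chkL u hu
  rw [force_eq, force_eq] at this
  have := allLt2_iff.1 this a ha
  simp only [force_eq, Bool.and_eq_true, Bool.or_eq_true, J4P.xor_def] at this
  refine ⟨eq_of_beq this.1, fun h => ?_, fun h => ?_⟩
  · obtain ⟨h1, h2, -⟩ := this.2.resolve_left fun e => absurd (Nat.le_of_ble_eq_true e) (by omega)
    exact ⟨eq_of_beq h1, lt_of_blt h2⟩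
  · obtain ⟨-, -, h3⟩ := this.2.resolve_left fun e => absurd (Nat.le_of_ble_eq_true e) (by omega)
    obtain ⟨h4, h5⟩ := h3.resolve_left fun e => absurd (lt_of_blt e) (by omega)
    exact ⟨eq_of_beq h4, eq_of_beq h5⟩

theorem v_tab {v : ℕ} (hv : v < 4096) : (ia v < 512 ∧ iu v < 64 ∧ K1 (ia v) ^^^ K3 (iu v) = v) ∧
    (v &&& 520 = 0 → ∃ a < 512, ∃ u < 64, qc v = nc a (rl u)) ∧
    (Bf v 1 = 0 → Bf v 64 = 0 → v &&& 520 = 0) ∧ (v ^^^ (v &&& 520)) &&& 520 = 0 ∧
    (v &&& 520 = 0 ∨ v &&& 520 = 8 ∨ v &&& 520 = 512 ∨ v &&& 520 = 520) ∧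
    (ac jy v >>> 8 = nib v 1 ∧ ac jyi v >>> 8 = nib v 0 ∧ ac j32 v >>> 8 = nib v 1 ^^^ nib v 2 ∧
      ac j31 v >>> 8 = nib v 0 ^^^ nib v 2) ∧ v = nib v 0 + 16 * nib v 1 + 256 * nib v 2 ∧
    (ac a34 v = v → ac a35 v = v → ac x34 v = v → ac x35 v = v → v = 0 ∨ v = 1 ∨ v = 64 ∨ v = 65) := by
  have h1 : allLt2 (fun v => force (ia v) fun a => force (iu v) fun u =>
      blt a 512 && (blt u 64 && Nat.beq (Nat.xor (K1 a) (K3 u)) v)) 64 64 = true := by decide +kernel
  have h2 : allLt2 (fun v => force (qc v) fun c => force (Nat.land v 520) fun b =>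
      (blt 0 b || (blt (Nat.land c 1023) 512 &&
        Nat.beq c (nc (Nat.land c 1023) (rl (ur (Nat.shiftRight c 10)))))) &&
      ((blt 0 (Bf v 1) || (blt 0 (Bf v 64) || Nat.beq b 0)) && (Nat.beq (Nat.land (Nat.xor v b) 520) 0 &&
        (Nat.beq b 0 || (Nat.beq b 8 || (Nat.beq b 512 || Nat.beq b 520)))))) 64 64 = true := by
    decide +kernel
  have h3 : allLt2 (fun v => Nat.beq (Nat.shiftRight (ac jy v) 8) (nib v 1) &&
      (Nat.beq (Nat.shiftRight (ac jyi v) 8) (nib v 0) &&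
      (Nat.beq (Nat.shiftRight (ac j32 v) 8) (Nat.xor (nib v 1) (nib v 2)) &&
      (Nat.beq (Nat.shiftRight (ac j31 v) 8) (Nat.xor (nib v 0) (nib v 2)) &&
      Nat.beq v (nib v 0 + 16 * nib v 1 + 256 * nib v 2))))) 64 64 = true := by decide +kernel
  have h4 : allLt2 (fun v => !Nat.beq (ac x34 v) v || (!Nat.beq (ac x35 v) v || (!Nat.beq (ac a34 v) v ||
      (!Nat.beq (ac a35 v) v || (Nat.beq v 0 || (Nat.beq v 1 || (Nat.beq v 64 || Nat.beq v 65))))))) 64 64
      = true := by decide +kernel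
  have h1 := allLt2_iff.1 h1 v hv
  have h2 := allLt2_iff.1 h2 v hv
  have h3 := allLt2_iff.1 h3 v hv
  have h4 := allLt2_iff.1 h4 v hv
  simp only [force_eq, Bool.and_eq_true, Bool.or_eq_true] at h1 h2 h3
  have nb : ∀ {a : ℕ}, a = 0 → ¬ blt 0 a = true := fun e e' => absurd (lt_of_blt e') (by omega)
  refine ⟨⟨lt_of_blt h1.1, lt_of_blt h1.2.1, eq_of_beq h1.2.2⟩, fun e => ?_, fun e e' => ?_,
    eq_of_beq h2.2.2.1, h2.2.2.2.imp CG.eq_of_beq (Or.imp CG.eq_of_beq (Or.imp CG.eq_of_beq CG.eq_of_beq)),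
    ⟨eq_of_beq h3.1, eq_of_beq h3.2.1, eq_of_beq h3.2.2.1, eq_of_beq h3.2.2.2.1⟩, eq_of_beq h3.2.2.2.2,
    fun e1 e2 e3 e4 => ?_⟩
  · obtain ⟨a1, a2⟩ := h2.1.resolve_left (nb e)
    exact ⟨_, lt_of_blt a1, _, ur_lt _, eq_of_beq a2⟩
  · exact eq_of_beq ((h2.2.1.resolve_left (nb e)).resolve_left (nb e'))
  · rw [e1, e2, e3, e4] at h4
    simpa using h4

theorem e_tab : ∀ n < 16, kvB (nc (128 * (n &&& 3)) (rl ((n &&& 4) + 4 * (n &&& 8)))) (eE n) = true ∧
    128 * (n &&& 3) < 512 ∧ (n &&& 4) + 4 * (n &&& 8) < 64 ∧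
    K1 (128 * (n &&& 3)) ^^^ K3 ((n &&& 4) + 4 * (n &&& 8)) = 256 * pp n ∧
    n4 (ac (eE n) 512 ^^^ 512) = n ∧ ac (eE n) 64 = 64 ∧ ac (mm xS (eE n)) 64 = 65 := by
  decide +kernel

theorem complete_TA : Complete (gcode : GL4 → ℕ) (gen gcode L120) 120 TA :=
  C4.complete_of_closed (J := fun s i => fld 8 255 JAd (120 * s + i)) (by norm_num)
    (by decide +kernel) (by decide +kernel)

theorem TA_tab : ∀ i < 120, ∀ k < 4, force (pp (a4 (TA i) (pi (2 ^ k)))) (fun m => force (TN i) fun t =>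
    Nat.beq (ac t (2 ^ k)) m && (Nat.beq (ac t (2 ^ (k + 4))) (16 * m) &&
      Nat.beq (ac t (2 ^ (k + 8))) (256 * m))) = true := by
  decide +kernel

theorem top_V : ∀ c ∈ [y5, tv 1 2], Mem (gcode : GL5 → ℕ) ⊤ c := fun c hc =>
  mem5 ((show ∀ c ∈ [y5, tv 1 2], isG c = true by decide +kernel) c hc)

theorem sound_TV : Sound (gcode : GL5 → ℕ) (gen gcode [y5, tv 1 2]) 168 TV :=
  C5.sound_tree (mem_gen top_V) (m := 2) (A := fld 2 3 AWd) (P := fld 8 255 PWd) le_rfl
    (C5.mem_one _) (by decide +kernel)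

theorem TV_tab {a b c : ℕ} (ha : a < 8) (hb : b < 8) (hc : c < 8) (h1 : a ≠ 0) (h2 : b ≠ 0) (h3 : c ≠ 0)
    (h4 : a ^^^ b ≠ 0) (h5 : a ^^^ c ≠ 0) (h6 : b ^^^ c ≠ 0) (h7 : a ^^^ b ^^^ c ≠ 0) :
    ∃ j < 168, wa (TV j) 16 = zc a ∧ wa (TV j) 2 = zc b ∧ wa (TV j) 1 = zc c := by
  have : ∀ a < 8, ∀ b < 8, ∀ c < 8, (Nat.beq (a * b * c * (a ^^^ b) * (a ^^^ c) * (b ^^^ c) * (a ^^^ b ^^^ c)) 0 ||
      force (fld 8 255 JVd (a + 8 * b + 64 * c)) (fun j =>
      blt j 168 && (Nat.beq (wa (TV j) 16) (zc a) && (Nat.beq (wa (TV j) 2) (zc b) &&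
        Nat.beq (wa (TV j) 1) (zc c))))) = true := by
    decide +kernel
  have := this a ha b hb c hc
  simp only [force_eq, Bool.and_eq_true, Bool.or_eq_true] at this
  obtain ⟨e1, e2, e3, e4⟩ := this.resolve_left fun e => by
    have := CG.eq_of_beq e
    simp only [Nat.mul_eq_zero] at this
    tauto
  exact ⟨_, lt_of_blt e1, eq_of_beq e2, eq_of_beq e3, eq_of_beq e4⟩

theorem chk_ac : (acB y5 y5i jy && acB y5i y5 jyi && acB (tv 1 2) (tv 1 2) ju && acB (tv 1 3) (tv 1 3) jt1 &&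
    acB (tv 2 3) (tv 2 3) jt2 && acB (tv 3 2) (tv 3 2) j32 && acB (tv 3 1) (tv 3 1) j31) = true := by
  decide +kernel

theorem ac_xor' (X u v : ℕ) : ac X (u ^^^ v) = ac X u ^^^ ac X v :=
  eq_of_vdec (n := 12) (CL.J4.ac_lt _ _) (xor12 (CL.J4.ac_lt _ _) (CL.J4.ac_lt _ _)) (by
    rw [vdec_xor, ac_def, ok12.vdec_act, ok12.vdec_act, ok12.vdec_act, vdec_xor, Matrix.mulVec_add])

theorem a4_lt (g v : ℕ) : a4 g v < 16 := by
  unfold a4; exact ok4.act_lt g v

end CL.T10.J4x
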