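import Cfsg.Agent.SPOR.T10.Alf

/-!
The orbit of the vector 1 when `YA ≤ X`; see `LinM` for the criterion.
-/

set_option autoImplicit false
set_option maxRecDepth 100000

namespace CL.T10

open CL.K CL.CG CL.F2M CL.F24 CL.LX CL.MSS Subgroup Cfsg
open CL.J4P (Kv)

attribute [local irreducible] gcode vcode

variable {X : Subgroup GL12}


namespace LinA

/-- the stabiliser of the vector 1 -/
def St (X : Subgroup GL12) : Subgroup GL12 where
  carrier := {g | g ∈ X ∧ sv g 1 = 1}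
  mul_mem' ha hb := ⟨mul_mem ha.1 hb.1, by rw [sv_mul _ _ (by norm_num), hb.2, ha.2]⟩
  one_mem' := ⟨one_mem X, sv_one (by norm_num)⟩
  inv_mem' {g} hg := ⟨inv_mem hg.1, by
    nth_rw 1 [← hg.2]
    rw [← sv_mul _ _ (by norm_num), inv_mul_cancel, sv_one (by norm_num)]⟩

/-- the action on `E16` -/
noncomputable def al4 (h : XF X) : St X →* GL4 := MonoidHom.mk' (fun g => elt gcode (alf (gcode g.1))) fun g k => by
  rw [coe_mul, h.alf_mul g.2.1 g.2.2 k.2.1 k.2.2, C4.elt_mul (h.alf_top g.2.1 g.2.2) (h.alf_top k.2.1 k.2.2)]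

theorem conj_mem {x b : GL12} (hx : x ∈ X) (hb : b ∈ X) (e : sv b (sv x 1) = sv x 1) : x⁻¹ * b * x ∈ St X :=
  ⟨mul_mem (mul_mem (inv_mem hx) hb) hx, by
    rw [mul_assoc, sv_mul _ _ (by norm_num), sv_mul _ _ (by norm_num), e, ← sv_mul _ _ (by norm_num),
      inv_mul_cancel, sv_one (by norm_num)]⟩

theorem kill (h : XF X) {x u : GL12} {k : St X} (e : k = x⁻¹ * u * x) (h1 : al4 h k = 1) (u1 : u ≠ 1) :
    ∃ w < 4096, sv u w ^^^ w = sv x 1 := by
  obtain ⟨w, hw, e1⟩ := z_mem_ZB (h.alf_ker k.2.1 k.2.2 ((h.alf_top k.2.1 k.2.2).code_elt.symm.trans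
    ((congrArg gcode h1).trans C4.map_one))) (fun e1 => u1 (by
      rw [show u = x * k * x⁻¹ by rw [e]; group, e1]; group))
  refine ⟨_, sv_lt x w, ?_⟩
  rw [← e1, sv_xor _ (sv_lt _ _) hw, ← sv_mul u x hw, ← sv_mul x k hw, show x * k = u * x by rw [e]; group]

/-- the elements of `S3 wr 2` -/
def T72 (i : ℕ) : ℕ := fld 16 65535 0x8124c32489649126813c2184cf64f326423c6984984689fc23c41962913f318cc3182196fc4646fc6fc43f62623ff98c42184896184298cf324ccf9823f619f313c8f319319f69123c4264cff64c46984cf626f39fc86219c89f481218c31248fc89326f6f323f9113f9f91324c396486489c46f4c3226918cf9c8133c811269f6239f3124818469c4238c3196218421 i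

theorem compl72 : Complete (gcode : GL4 → ℕ) (gen gcode L72) 72 T72 :=
  C4.complete_of_closed (J := fun s i => fld 7 127 0x84f9db86d1d9b05d195a98a9d2c4490d09f8274dc034fcc167a55e137449cb72039a8d682d90a62bc42d0eb1506509822306890023c700992e500111e304858b063ba78fa33269096c3671143054911bf7700f384069e9942dcab93a509366a455af1ac538c14b9610121d4a60c951180a0cf9c046cb812c4c7801c2c4048d1e0c06eee2c45ecdaaa84c932786a5ea07ce8e1d7e7d19730f1b1470e49955a3c8345c3183116344ab58212284a182a14410d1e3608c96024888e002838386fde398ee1a318cc164556a22425e95141427a03e6e6ccbd7680b3a3071b1222d59aa1cc88265c296a71ea438c109119d2e7c19408682932a0448b1a003028901ec772d9ac662ba2ac52b61a54d0a0a23e8df9b38f9d3c2c5dd9926ddc1a64d070f66445af609140854ac6894e28f044084a853a48a1806086100e18001 (72 * s + i))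
    (by norm_num) (by decide +kernel) (by decide +kernel)

theorem three {b c : GL4} (hb : b ∈ (gen gcode L72 : Subgroup GL4)) (hc : c ∈ (gen gcode L72 : Subgroup GL4))
    (c3 : c⁻¹ = c * c) (e : b * c * b⁻¹ * c⁻¹ * (b * c * b⁻¹ * c⁻¹) = 1) : b * c * b⁻¹ * c⁻¹ = 1 := by
  have k : allLt (fun j => force (T72 j) fun c => !Nat.beq (m4 c (m4 c c)) 0x8421 || allLt (fun i =>
      force (T72 i) fun b => force (powC m4 0x8421 b 11) fun d => Nat.beq (m4 b d) 0x8421 &&
        force (m4 (m4 (m4 b c) d) (m4 c c)) fun k => !Nat.beq (m4 k k) 0x8421 || Nat.beq k 0x8421) 72) 72 = true := by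
    decide +kernel
  obtain ⟨i, hi, e1⟩ := compl72 b hb
  obtain ⟨j, hj, e2⟩ := compl72 c hc
  have := allLt_iff.1 k j hj
  rw [force_eq, ← e2, C4.map_mul, C4.map_mul, ← c3, mul_inv_cancel, C4.map_one, Nat.beq_refl, Bool.not_true,
    Bool.false_or] at this
  have := allLt_iff.1 this i hi
  rw [force_eq, force_eq, force_eq, ← e1, C4.powC_eq, Bool.and_eq_true, C4.map_mul, ← C4.map_one] at this
  obtain ⟨t1, t2⟩ := this
  rw [← inv_eq_of_mul_eq_one_right (C4.inj (eq_of_beq t1)), C4.map_mul, C4.map_mul, C4.map_mul, C4.map_mul, e,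
    Nat.beq_refl, Bool.not_true, Bool.false_or] at t2
  exact C4.inj (eq_of_beq t2)

/-- `r ∉ [W, u]`, `u ≠ 1` -/
noncomputable def out (r u : ℕ) : Bool := !Nat.beq u c1 && allLt2 (fun w => !Nat.beq (Nat.xor (ac u w) w) r) 64 64

theorem out_spec {u : GL12} {r : ℕ} (c : out r (gcode u) = true) : u ≠ 1 ∧ ¬ ∃ w < 4096, sv u w ^^^ w = r := by
  rw [out, Bool.and_eq_true, allLt2_iff] at c
  refine ⟨fun e => ?_, fun ⟨w, hw, e⟩ => ?_⟩
  · rw [e, C12.map_one, Nat.beq_refl] at c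
    exact absurd c.1 (by decide)
  · have := c.2 w hw
    rw [show Nat.xor (ac (gcode u) w) w = r from e, Nat.beq_refl] at this
    exact absurd this (by decide)

/-- certificate against the vector `r` -/
noncomputable def k3 (r b c : ℕ) : Bool := force b fun b => force c fun c => force (powC mm c1 b 5) fun d =>
  Nat.beq (ac b r) r && (Nat.beq (ac c r) r && (F2M.unitB 12 CM 4095 d b && (F2M.unitB 12 CM 4095 (mm c c) c &&
    force (mm (mm (mm b c) d) (mm c c)) fun u => Nat.beq (mm u u) c1 && out r u)))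

theorem kill3 (h : XF X) (hz : ∀ g ∈ X, sv g 1 = 1 → Al L72 g) {x : GL12} (hx : x ∈ X) {r B C : ℕ}
    (hb : Mem gcode X B) (hc : Mem gcode X C) (k : k3 r B C = true) : sv x 1 ≠ r := by
  obtain ⟨b, hb, rfl⟩ := hb
  obtain ⟨c, hc, rfl⟩ := hc
  rintro rfl
  simp only [k3, force_eq, Bool.and_eq_true] at k
  obtain ⟨k1, k2, k3, k4, k5, k6⟩ := k
  have c3 : c⁻¹ = c * c := C12.inj ((code_inv rfl k4).trans (C12.map_mul _ _))
  rw [← code_inv rfl k3, ← code_inv rfl k4, C12.map_mul, C12.map_mul, C12.map_mul] at k5 k6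
  rw [C12.map_mul, ← C12.map_one] at k5
  let β : St X := ⟨_, conj_mem hx hb (eq_of_beq k1)⟩
  let γ : St X := ⟨_, conj_mem hx hc (eq_of_beq k2)⟩
  have e : ((β * γ * β⁻¹ * γ⁻¹ : St X) : GL12) = x⁻¹ * (b * c * b⁻¹ * c⁻¹) * x := by
    simp only [β, γ, coe_mul, coe_inv]; group
  refine (out_spec k6).2 (kill h e ?_ (out_spec k6).1)
  rw [map_mul, map_mul, map_mul, map_inv, map_inv]
  refine three (C4.elt_mem (hz _ β.2.1 β.2.2)) (C4.elt_mem (hz _ γ.2.1 γ.2.2)) ?_ ?_
  · rw [← map_inv, ← map_mul]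
    exact congrArg _ (Subtype.ext (by simp only [γ, coe_mul, coe_inv, mul_inv_rev, c3]; group))
  · rw [← map_inv, ← map_inv, ← map_mul, ← map_mul, ← map_mul, ← map_mul, ← map_one (al4 h)]
    refine congrArg _ (Subtype.ext ?_)
    rw [coe_mul, e, show ∀ u : GL12, x⁻¹ * u * x * (x⁻¹ * u * x) = x⁻¹ * (u * u) * x from fun u => by group,
      C12.inj (eq_of_beq k5)]
    simp

/-- the union of the orbits of the entries of `R` -/
noncomputable def cov (L R : List ℕ) (k : ℕ → Bool) : ℕ → Bool :=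
  List.rec (motive := fun _ => ℕ → Bool) k (fun r _ ih U => orbA ac 4096 L r fun S _ => force (Nat.lor U S) ih) R

theorem cov_spec {L : List ℕ} (hL : ∀ c ∈ L, Mem (gcode : GL12 → ℕ) ⊤ c) {k : ℕ → Bool} (R : List ℕ)
    (hR : ∀ r ∈ R, r < 4096) : ∀ U, cov L R k U = true → ∃ V, k V = true ∧ ∀ v < 4096, V.testBit v = true →
      U.testBit v = true ∨ ∃ r ∈ R, ∃ g ∈ (gen gcode L : Subgroup GL12), sv g r = v := by
  induction R with
  | nil => exact fun U h => ⟨U, h, fun _ _ e => .inl e⟩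
  | cons r R ih =>
    intro U h
    have hr := hR r (by simp)
    obtain ⟨S, m, h1, -, h3⟩ := A12.orbA_eq C12 hL (b := r) hr h
    rw [force_eq] at h1
    obtain ⟨V, h4, h5⟩ := ih (fun s hs => hR s (by simp [hs])) _ h1
    refine ⟨V, h4, fun v hv e => (h5 v hv e).elim (fun e => ?_) fun ⟨s, hs, e⟩ => .inr ⟨s, by simp [hs], e⟩⟩
    rw [Nat.lor_eq, Nat.testBit_or, Bool.or_eq_true] at e
    refine e.imp_right fun e => ?_
    obtain ⟨g, e⟩ := (h3 (vdec 12 v)).2 (by rwa [← vcode_vdec (n := 12) hv] at e)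
    exact ⟨r, by simp, g, g.2, by
      rw [ApiG.sv_code _ hr, show (g : GL12) • vdec 12 r = vdec 12 v from e, vcode_vdec (n := 12) hv]⟩

theorem reps {L R : List ℕ} (hL : ∀ c ∈ L, Mem (gcode : GL12 → ℕ) ⊤ c) (hR : ∀ r ∈ R, r < 4096)
    (c : cov L R (fun V => allLt2 (fun v => Nat.beq (bit V v) 1 || (Nat.beq v 0 || Nat.beq (Qf v) 1)) 64 64) 0 = true)
    {x : GL12} (hx : Iso x) : ∃ y ∈ (gen gcode L : Subgroup GL12), sv (y * x) 1 ∈ R := by
  obtain ⟨V, h1, h2⟩ := cov_spec hL R hR 0 c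
  have := allLt2_iff.1 h1 _ (sv_lt x 1)
  rw [hx 1 (by norm_num), ApiG.beq_false (a := sv x 1) (b := 0) fun e => by
    have := congrArg (sv x⁻¹) e
    rw [← sv_mul _ _ (by norm_num), inv_mul_cancel, sv_one (by norm_num), ← Nat.xor_self 0,
      sv_xor _ (by norm_num) (by norm_num), Nat.xor_self] at this
    exact absurd this (by decide), show Nat.beq (Qf 1) 1 = false by decide +kernel] at this
  obtain ⟨r, hr, g, hg, e⟩ := (h2 _ (sv_lt x 1) (bit_eq_one_iff.1 (by simpa using this))).resolve_left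
    (by simp)
  exact ⟨g⁻¹, inv_mem hg, by
    rwa [sv_mul _ _ (by norm_num), ← e, ← sv_mul _ _ (hR r hr), inv_mul_cancel, sv_one (hR r hr)]⟩

end LinA

open LinA

/-- PROOF. The orbits of `YA` on non-zero singular vectors: 0x1 (105), 0x9 (84), 0x42 (630), 0x52 (1260).
`⟨L72⟩` is 3-closed: if `γ³ = 1` and `[β, γ]² = 1` then `[β, γ] = 1` (72² cases). For each bad representative
`v` give `b, c ∈ YA` fixing `v`, `c³ = 1`, `u = [b, c]` an involution with `v ∉ [W, u]`. -/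
theorem XF.lin72 (h : XF X) (hA : YA ≤ X) (hz : ∀ g ∈ X, sv g 1 = 1 → Al L72 g) {x : GL12} (hx : x ∈ X) :
    ∃ y ∈ YA, sv (y * x) 1 = 1 := by
  have t : ∀ c ∈ gA, Mem (gcode : GL12 → ℕ) ⊤ c := fun c hc => top_gY c (List.mem_append_left [xT] hc)
  obtain ⟨y, hy, e⟩ := reps (R := [1, 9, 0x42, 0x52]) t (by decide) (by decide +kernel) (h.iso x hx)
  have w : ∀ I : List ℕ, (∀ i ∈ I, i < 8) → Mem gcode X (word mm gA I c1) := fun I hI =>
    (C12.mem_word (mem_gen t) hI (C12.mem_one _)).mono hA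
  have m := mul_mem (hA hy) hx
  simp only [List.mem_cons, List.not_mem_nil, or_false] at e
  refine ⟨y, hy, ((e.resolve_right ?_))⟩
  rintro (e | e | e)
  · exact kill3 h hz m (w [4, 7, 4, 5, 3, 2] (by decide)) (w [5, 3] (by decide)) (by decide +kernel) e
  · exact kill3 h hz m (w [3] (by decide)) (w [2, 4, 1] (by decide)) (by decide +kernel) e
  · exact kill3 h hz m (w [2, 0] (by decide)) (w [6, 7, 5, 3] (by decide)) (by decide +kernel) e

end CL.T10
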