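import Cfsg.Agent.SPOR.J4P.PC

/-!
The split extension `2 ^ 10 : L5(2)` on codes. `V = F_2 ^ 5` with basis `e1 .. e5` (bits 0 to 4);
`Λ² V` has codes below 1024: bit 0 is `e1 ∧ e2`, bits 1-3 are `13, 14, 15`, bits 4-6 are `23, 24, 25`,
bits 7-9 are `34, 35, 45`. The pair `(a, g)` has code `a + 1024 * gcode g`.
-/

set_option autoImplicit false
set_option maxRecDepth 100000

namespace CL.T10

open CL.K CL.CG CL.F2M CL.F24
open scoped Matrix

attribute [local irreducible] gcode vcode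

/-- linear combination of the values `F k` over the bits of `a` -/
noncomputable def lc (F : ℕ → ℕ) (n a : ℕ) : ℕ := xorLt (fun k => Nat.mul (bit a k) (F k)) n

theorem bit_xor_mul (a b k r : ℕ) : bit (a ^^^ b) k * r = bit a k * r ^^^ bit b k * r := by
  simp only [bit_eq, Nat.testBit_xor]
  cases a.testBit k <;> cases b.testBit k <;> simp

theorem lc_xor (F : ℕ → ℕ) (n a b : ℕ) : lc F n (a ^^^ b) = lc F n a ^^^ lc F n b := by
  unfold lc
  induction n with
  | zero => simp [xorLt_zero]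
  | succ n ih =>
    rw [xorLt_succ, xorLt_succ, xorLt_succ, ih]
    simp only [Nat.mul_eq]
    rw [bit_xor_mul, J4P.xor4]

theorem lc_pow (F : ℕ → ℕ) {n i : ℕ} (hi : i < n) : lc F n (2 ^ i) = F i := by
  have h0 : ∀ m ≤ i, lc F m (2 ^ i) = 0 := fun m hm => by
    unfold lc
    induction m with
    | zero => rfl
    | succ m ih =>
      rw [xorLt_succ, ih (by omega), bit_eq, Nat.testBit_two_pow_of_ne (by omega)]
      simp
  unfold lc at h0 ⊢
  induction n with
  | zero => omega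
  | succ n ih =>
    rw [xorLt_succ, bit_eq]
    rcases Nat.lt_succ_iff_lt_or_eq.1 hi with h | rfl
    · rw [ih h, Nat.testBit_two_pow_of_ne (by omega)]; simp
    · rw [h0 i le_rfl, Nat.testBit_two_pow_self]; simp

theorem lc_lt {F : ℕ → ℕ} {n N : ℕ} (h : ∀ k < n, F k < 2 ^ N) (a : ℕ) : lc F n a < 2 ^ N :=
  xorLt_lt fun k hk => bit_mul_lt (h k hk)

/-- additive maps on codes are determined by their values on the powers of two -/
theorem lin_ext {n : ℕ} {f g : ℕ → ℕ} (hf : ∀ a < 2 ^ n, ∀ b < 2 ^ n, f (a ^^^ b) = f a ^^^ f b)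
    (hg : ∀ a < 2 ^ n, ∀ b < 2 ^ n, g (a ^^^ b) = g a ^^^ g b) (h : ∀ i < n, f (2 ^ i) = g (2 ^ i)) :
    ∀ a < 2 ^ n, f a = g a := by
  have key : ∀ m ≤ n, ∀ a < 2 ^ m, f a = g a := by
    intro m
    induction m with
    | zero =>
      intro _ a ha
      obtain rfl : a = 0 := by simpa using ha
      have h1 := hf 0 (Nat.two_pow_pos n) 0 (Nat.two_pow_pos n)
      have h2 := hg 0 (Nat.two_pow_pos n) 0 (Nat.two_pow_pos n)
      rw [Nat.xor_self, Nat.xor_self] at h1 h2
      rw [h1, h2]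
    | succ m ih =>
      intro hm a ha
      by_cases hl : a < 2 ^ m
      · exact ih (by omega) a hl
      have hp : 2 ^ m < 2 ^ n := Nat.pow_lt_pow_right (by norm_num) hm
      have hb : a ^^^ 2 ^ m < 2 ^ m := by
        refine Nat.lt_pow_two_of_testBit _ fun i hi => ?_
        rw [Nat.testBit_xor]
        rcases Nat.eq_or_lt_of_le hi with rfl | hi
        · rw [Nat.testBit_two_pow_self, Nat.testBit_of_two_pow_le_and_two_pow_add_one_gt (not_lt.1 hl) ha]
          rfl
        · rw [Nat.testBit_two_pow_of_ne (by omega),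
            Nat.testBit_lt_two_pow (ha.trans_le (Nat.pow_le_pow_right (by norm_num) hi))]
          rfl
      have e : a = (a ^^^ 2 ^ m) ^^^ 2 ^ m := by rw [Nat.xor_assoc, Nat.xor_self, Nat.xor_zero]
      rw [e, hf _ (hb.trans hp) _ hp, hg _ (hb.trans hp) _ hp, ih (by omega) _ hb, h m hm]
  exact key n le_rfl

/-- `L5(2)` -/
abbrev GL5 : Type := GL (Fin 5) (ZMod 2)

/-- lane mask -/
def CM5 : ℕ := 0x108421

theorem ok5 : OK 5 CM5 31 := ⟨by norm_num, by norm_num, by decide +kernel⟩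

/-- product of codes -/
noncomputable def m5 (a b : ℕ) : ℕ := mulC 5 CM5 31 a b
/-- action on codes of vectors -/
noncomputable def a5 (g v : ℕ) : ℕ := act 5 31 g v
/-- code of the identity -/
def i5 : ℕ := 0x1041041
/-- the transvection `t_ij : e_j ↦ e_j + e_i`, indices from 1 to 5 -/
def tv (i j : ℕ) : ℕ := Nat.xor i5 (Nat.shiftLeft 1 (5 * (j - 1) + (i - 1)))
/-- `e1 ↦ e2 ↦ e1 + e2` -/
def d12 : ℕ := 0x1041062
/-- the permutation `(2 3)` -/
def w23 : ℕ := 0x1040881
/-- column number `j` (from 0) -/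
def cl (g j : ℕ) : ℕ := fld 5 31 g j

theorem oneC5 : oneC 5 = i5 := by decide +kernel

theorem C5 : IsCode (gcode : GL5 → ℕ) m5 i5 := oneC5 ▸ ok5.isCode

theorem A5 : IsAct (gcode : GL5 → ℕ) (enc 5) a5 := ok5.isAct

theorem a5_code (g : GL5) (v : Fin 5 → ZMod 2) : a5 (gcode g) (vcode v) = vcode (g • v) := A5 g v

theorem a5_eq (g v : ℕ) : a5 g v = lc (cl g) 5 v := by rw [a5, act, force_eq]; rfl

theorem cl_lt (g j : ℕ) : cl g j < 32 := Nat.lt_succ_of_le Nat.and_le_right

theorem a5_lt (g v : ℕ) : a5 g v < 32 := ok5.act_lt g v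

theorem a5_xor (g u v : ℕ) : a5 g (u ^^^ v) = a5 g u ^^^ a5 g v := by simp only [a5_eq, lc_xor]

theorem a5_pow (g : ℕ) {i : ℕ} (hi : i < 5) : a5 g (2 ^ i) = cl g i := by rw [a5_eq, lc_pow _ hi]

theorem a5_mul (g h : GL5) {v : ℕ} (hv : v < 32) :
    a5 (gcode (g * h)) v = a5 (gcode g) (a5 (gcode h) v) := by
  rw [← vcode_vdec (n := 5) hv, a5_code, a5_code, a5_code, mul_smul]

theorem gcode5_lt (g : GL5) : gcode g < 2 ^ 25 := by
  unfold gcode; exact mcode_lt _

/-- test for being the code of an invertible matrix -/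
noncomputable def isG (g : ℕ) : Bool :=
  force g fun g => blt g 0x2000000 && allLt (fun v => Nat.beq v 0 || !Nat.beq (a5 g v) 0) 32

theorem mem5 {g : ℕ} (h : isG g = true) : Mem (gcode : GL5 → ℕ) ⊤ g := by
  rw [isG, force_eq, Bool.and_eq_true, allLt_iff] at h
  have hu : IsUnit (mdec 5 g) := Matrix.mulVec_injective_iff_isUnit.1 (by
    refine (injective_iff_map_eq_zero (Matrix.mulVecLin (mdec 5 g))).2 fun v hv => ?_
    have h1 := h.2 (vcode v) (vcode_lt v)
    have h2 : a5 g (vcode v) = 0 := eq_of_vdec (n := 5) (a5_lt _ _) (by norm_num) (by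
      rw [a5, ok5.vdec_act, vdec_vcode, vdec_zero]; exact hv)
    rw [h2, Bool.or_eq_true] at h1
    exact vcode_injective ((eq_of_beq (h1.resolve_right (by decide))).trans vcode_zero.symm))
  refine ⟨hu.unit, trivial, ?_⟩
  unfold gcode
  exact mcode_mdec (lt_of_blt h.1)

/-- the element with a given code -/
noncomputable abbrev E5 (c : ℕ) : GL5 := elt gcode c

theorem code_E5 {c : ℕ} (h : isG c = true) : gcode (E5 c) = c := (mem5 h).code_elt

/-- table of the wedge product -/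
def WT : ℕ := 0xf1c47e6499d78deca92abb56dacdb39d1f48d2347ce736b6ad5aaea47b1e3675921f87103c0003c001fc7067d907bde0abea0b7ed0cff30d3f40d3f40cff30b7ed0abea07bde067d901fc7003c001c47f0000e7cdfd6098cbd6fba128addf79c1b08de777c2306beef5a2a847f5f3631821fc71038001f870038007f9f063980bfaf0a3a80dfb70c3b00dfb70c3b00bfaf0a3a807f9f0639801f870038006499f7cdfe0000d1846cedbbbf5fda8922991648f6bd7eefb6922458a6247f9f367d921b06103400675907f5f0034001b460ef7b0f77d08b62093640f77d0ef7b0936408b6207f5f0675901b4600340078def6098e1846d0000cf9febe1b8a9966981208fafe7e2b869a665822047bde3639821b461030007b1e0631801b06003000fb3e0e33809b26083200fb3e0e33809b260832007b1e0631801b06003000a92afbd6feedbbdf9fec0000b1445a4491950d48fb3e7ef7b6bfaf5abea452143465121685102c00aaea0beef0eefb0fafe002c0016c5046d1052d40fafe0eefb0beef0aaea052d4046d1016c5002c00b56dfa128ef5fdde1b8c1445b0000a54d5940908f77d7e3386b7ed5a3a84565534210216c5102800b6ad0a2a80f6bd0e2b8016850028005695042900f6bd0e2b80b6ad0a2a805695042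9001685002800cdb3fddf7e8922d9966c4491b54d5a0000910448dfb77cff369b2658b6245695346d121204102400ce730de7708a6209a66046510565500240012440de770ce7309a6608a62056550465101244002400d1f4fc1b0e9164d8120c50d4b4090a1044900008d3f47c3b06936458320452d43429021244102000d2340c2300922408220052140421001204002000d2340c2300922408220052140421001204002000d234fde77ef6bddfafecfb3ebf77dadfb79d3f48000070c4362489528ca4290a3254920d83101c00d1f40ddf70f5fd0f9fe0f9fe0f5fd0ddf70d1f4001c000dc3025c9029ca029ca025c900dc3001c00ce73fc230eeefbde2b8cef7bbe338acff39c3b080c437000062ccb5208842d4b3210820dc3101800cdb30c1b00edbb0e1b80edbb0e1b80cdb30c1b000d830018002d8b0218802d8b0218800d83001800b6adfbeefe9224d9a66cbfafbb7eda9b26993648248972ccb600005084242d8b325c920902101400b56d0bd6f09164099660bd6f0b56d09966091640254902d4b001400094202d4b0254900942001400aaeafa2a8e8a62d8220cabeaba3a8a8b6298320828ca720886084250000429ca3218820942101000a92a0a12808922081200a92a0a12808922081200290a0210800902001000290a021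08009020010007b1ef7f5fe7f9fd7bdec5214b5655a5695952d48290a72d4b62d8b529ca400003044120481100c0078de07cdf07cdf078de050d4054d5054d5050d4028ca02ccb02ccb028ca000c0004c1004c1000c006759f6318e67d9d6398c4651b4210a46d1942908254972108625c9521884044130000204c1100800649906098064990609804491040900449104090024890208802489020880048100080004810008001f87f1fc7e1b06d1b46c1685b16c5a12049124480d8370dc3609025094240481304c1200001004001c4701c4701846018460144501445010440104400c4300c43008420084200441004410004000040003c0f0380e0340d0300c02c0b0280a024090200801c0701806014050100400c0300802004010000000000000000000000000000000000000000000000000000000000000000000000000000000000000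
/-- `u ∧ v` -/
def wd (u v : ℕ) : ℕ := fld 10 1023 WT (Nat.add (Nat.mul 32 u) v)
/-- first index of basis vector `k` of `Λ² V` -/
def pI (k : ℕ) : ℕ := fld 4 15 0x3221110000 k
/-- second index -/
def pJ (k : ℕ) : ℕ := fld 4 15 0x4434324321 k
/-- the action on `Λ² V` -/
noncomputable def wa (g a : ℕ) : ℕ :=
  force g fun g => force a fun a => lc (fun k => wd (cl g (pI k)) (cl g (pJ k))) 10 a

theorem wa_eq (g a : ℕ) : wa g a = lc (fun k => wd (cl g (pI k)) (cl g (pJ k))) 10 a := by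
  rw [wa, force_eq, force_eq]

theorem wd_lt (u v : ℕ) : wd u v < 1024 := Nat.lt_succ_of_le Nat.and_le_right

theorem wd_tab : ∀ u < 32, ∀ v < 32, wd u v = wd v u ∧ wd u u = 0 ∧
    ∀ w < 32, wd (u ^^^ v) w = wd u w ^^^ wd v w := by
  have : allLt (fun u => allLt (fun v => Nat.beq (wd u v) (wd v u) && (Nat.beq (wd u u) 0 &&
      allLt (fun w => Nat.beq (wd (Nat.xor u v) w) (Nat.xor (wd u w) (wd v w))) 32)) 32) 32 = true := by
    decide +kernel
  intro u hu v hv
  have := allLt_iff.1 (allLt_iff.1 this u hu) v hv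
  simp only [Bool.and_eq_true, allLt_iff] at this
  exact ⟨eq_of_beq this.1, eq_of_beq this.2.1, fun w hw => eq_of_beq (this.2.2 w hw)⟩

theorem wd_comm {u v : ℕ} (hu : u < 32) (hv : v < 32) : wd u v = wd v u := (wd_tab u hu v hv).1

theorem wd_self {u : ℕ} (hu : u < 32) : wd u u = 0 := (wd_tab u hu u hu).2.1

theorem wd_xor {u v w : ℕ} (hu : u < 32) (hv : v < 32) (hw : w < 32) :
    wd (u ^^^ v) w = wd u w ^^^ wd v w := (wd_tab u hu v hv).2.2 w hw

theorem wd_xor' {u v w : ℕ} (hu : u < 32) (hv : v < 32) (hw : w < 32) :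
    wd w (u ^^^ v) = wd w u ^^^ wd w v := by
  rw [wd_comm hw (Nat.xor_lt_two_pow (n := 5) hu hv), wd_xor hu hv hw, wd_comm hu hw, wd_comm hv hw]

theorem wa_lt (g a : ℕ) : wa g a < 1024 := by
  rw [wa_eq]; exact lc_lt (N := 10) (fun k _ => wd_lt _ _) a

theorem wa_xor (g a b : ℕ) : wa g (a ^^^ b) = wa g a ^^^ wa g b := by simp only [wa_eq, lc_xor]

theorem wa_zero (g : ℕ) : wa g 0 = 0 := by
  have := wa_xor g 0 0
  rwa [Nat.xor_self, Nat.xor_self] at this

theorem wa_pow (g : ℕ) {k : ℕ} (hk : k < 10) : wa g (2 ^ k) = wd (cl g (pI k)) (cl g (pJ k)) := by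
  rw [wa_eq, lc_pow _ hk]

theorem wa_wd (g : ℕ) {u v : ℕ} (hu : u < 32) (hv : v < 32) :
    wa g (wd u v) = wd (a5 g u) (a5 g v) := by
  refine lin_ext (n := 5) (f := fun u => wa g (wd u v)) (g := fun u => wd (a5 g u) (a5 g v))
    (fun a ha b hb => by rw [wd_xor ha hb hv, wa_xor])
    (fun a _ b _ => by rw [a5_xor, wd_xor (a5_lt _ _) (a5_lt _ _) (a5_lt _ _)]) (fun i hi => ?_) u hu
  have hi' : 2 ^ i < 32 := Nat.pow_lt_pow_right (a := 2) (by norm_num) hi
  refine lin_ext (n := 5) (f := fun v => wa g (wd (2 ^ i) v))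
    (g := fun v => wd (a5 g (2 ^ i)) (a5 g v)) (fun a ha b hb => by rw [wd_xor' ha hb hi', wa_xor])
    (fun a _ b _ => by rw [a5_xor, wd_xor' (a5_lt _ _) (a5_lt _ _) (a5_lt _ _)]) (fun j hj => ?_) v hv
  have t : ∀ i < 5, ∀ j < 5, (i = j ∧ wd (2 ^ i) (2 ^ j) = 0) ∨ ∃ k < 10, wd (2 ^ i) (2 ^ j) = 2 ^ k ∧
      ((pI k = i ∧ pJ k = j) ∨ (pI k = j ∧ pJ k = i)) := by decide +kernel
  rw [a5_pow g hi, a5_pow g hj]
  rcases t i hi j hj with ⟨rfl, e⟩ | ⟨k, hk, e, ⟨rfl, rfl⟩ | ⟨rfl, rfl⟩⟩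
  · rw [e, wa_zero, wd_self (cl_lt _ _)]
  · rw [e, wa_pow g hk]
  · rw [e, wa_pow g hk, wd_comm (cl_lt _ _) (cl_lt _ _)]

theorem wa_mul (g h : GL5) {a : ℕ} (ha : a < 1024) :
    wa (gcode (g * h)) a = wa (gcode g) (wa (gcode h) a) := by
  refine lin_ext (n := 10) (f := wa (gcode (g * h))) (g := fun a => wa (gcode g) (wa (gcode h) a))
    (fun a _ b _ => wa_xor _ a b) (fun a _ b _ => by rw [wa_xor, wa_xor]) (fun k hk => ?_) a ha
  have t : ∀ k < 10, pI k < 5 ∧ pJ k < 5 := by decide +kernel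
  have p : ∀ i < 5, cl (gcode (g * h)) i = a5 (gcode g) (cl (gcode h) i) := fun i hi => by
    rw [← a5_pow _ hi, a5_mul g h (Nat.pow_lt_pow_right (a := 2) (by norm_num) hi), a5_pow _ hi]
  rw [wa_pow _ hk, wa_pow _ hk, wa_wd _ (cl_lt _ _) (cl_lt _ _), p _ (t k hk).1, p _ (t k hk).2]

theorem wa_one {a : ℕ} (ha : a < 1024) : wa i5 a = a :=
  lin_ext (n := 10) (f := wa i5) (g := id) (fun a _ b _ => wa_xor _ a b) (fun _ _ _ _ => rfl)
    (by decide +kernel) a ha

/-- the group `Λ² V ⋊ GL(V)` -/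
@[ext] structure NT where
  /-- the part in `Λ² V` -/
  a : ℕ
  /-- the linear part -/
  g : GL5
  lt : a < 1024

noncomputable instance : Mul NT :=
  ⟨fun x y => ⟨x.a ^^^ wa (gcode x.g) y.a, x.g * y.g, Nat.xor_lt_two_pow (n := 10) x.lt (wa_lt _ _)⟩⟩
noncomputable instance : One NT := ⟨⟨0, 1, by norm_num⟩⟩
noncomputable instance : Inv NT := ⟨fun x => ⟨wa (gcode x.g⁻¹) x.a, x.g⁻¹, wa_lt _ _⟩⟩

theorem NT.mul_a (x y : NT) : (x * y).a = x.a ^^^ wa (gcode x.g) y.a := rfl
theorem NT.mul_g (x y : NT) : (x * y).g = x.g * y.g := rfl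
theorem NT.one_a : (1 : NT).a = 0 := rfl
theorem NT.one_g : (1 : NT).g = 1 := rfl
theorem NT.inv_a (x : NT) : x⁻¹.a = wa (gcode x.g⁻¹) x.a := rfl
theorem NT.inv_g (x : NT) : x⁻¹.g = x.g⁻¹ := rfl

noncomputable instance : Group NT := Group.ofLeftAxioms
  (fun x y z => NT.ext (by
    simp only [NT.mul_a, NT.mul_g]
    rw [wa_xor, wa_mul _ _ z.lt, Nat.xor_assoc]) (mul_assoc _ _ _))
  (fun x => NT.ext (by rw [NT.mul_a, NT.one_a, NT.one_g, C5.map_one, wa_one x.lt, Nat.zero_xor])
    (one_mul _))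
  (fun x => NT.ext (by rw [NT.mul_a, NT.inv_a, NT.inv_g, Nat.xor_self, NT.one_a]) (inv_mul_cancel _))

/-- code of a pair -/
def nc (a g : ℕ) : ℕ := Nat.add a (Nat.mul 1024 g)
/-- code of an element -/
def ncode (x : NT) : ℕ := nc x.a (gcode x.g)
/-- product of codes -/
noncomputable def nm (c d : ℕ) : ℕ :=
  force c fun c => force d fun d => force (Nat.shiftRight c 10) fun g =>
    nc (Nat.xor (Nat.land c 1023) (wa g (Nat.land d 1023))) (m5 g (Nat.shiftRight d 10))
/-- code of the identity -/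
def n1 : ℕ := 0x410410400

theorem nc_and {a : ℕ} (ha : a < 1024) (g : ℕ) : Nat.land (nc a g) 1023 = a := by
  change (a + 1024 * g) &&& (2 ^ 10 - 1) = a
  rw [Nat.and_two_pow_sub_one_eq_mod]; omega

theorem nc_shift {a : ℕ} (ha : a < 1024) (g : ℕ) : Nat.shiftRight (nc a g) 10 = g := by
  change (a + 1024 * g) >>> 10 = g
  rw [Nat.shiftRight_eq_div_pow]; omega

theorem nm_nc {a b : ℕ} (ha : a < 1024) (hb : b < 1024) (g h : ℕ) :
    nm (nc a g) (nc b h) = nc (a ^^^ wa g b) (m5 g h) := by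
  rw [nm, force_eq, force_eq, force_eq, nc_and ha, nc_and hb, nc_shift ha, nc_shift hb]; rfl

theorem CN : IsCode ncode nm n1 where
  inj x y e := NT.ext (by rw [← nc_and x.lt (gcode x.g), ← nc_and y.lt (gcode y.g)]; exact congrArg (Nat.land · 1023) e)
    (C5.inj (by rw [← nc_shift x.lt (gcode x.g), ← nc_shift y.lt (gcode y.g)]; exact congrArg (Nat.shiftRight · 10) e))
  map_mul x y := by rw [ncode, ncode, nm_nc x.lt y.lt, C5.map_mul]; rfl
  map_one := by rw [ncode, NT.one_a, NT.one_g, C5.map_one]; decide +kernel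

instance : Finite NT :=
  Finite.of_injective (fun x : NT => ((⟨x.a, x.lt⟩ : Fin 1024), x.g)) fun _ _ e =>
    NT.ext (congrArg (fun p => p.1.1) e) (congrArg Prod.snd e)

/-- test for being the code of an element -/
noncomputable def isN (c : ℕ) : Bool := isG (Nat.shiftRight c 10)

theorem memN {c : ℕ} (h : isN c = true) : Mem ncode ⊤ c :=
  ⟨⟨c % 1024, E5 (Nat.shiftRight c 10), Nat.mod_lt _ (by norm_num)⟩, trivial, by
    rw [ncode, code_E5 h]
    change c % 1024 + 1024 * (c >>> 10) = c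
    rw [Nat.shiftRight_eq_div_pow]; omega⟩

/-- the projection onto the linear part -/
noncomputable def prj : NT →* GL5 := MonoidHom.mk' NT.g NT.mul_g
/-- the complement -/
noncomputable def inl5 : GL5 →* NT :=
  MonoidHom.mk' (fun g => ⟨0, g, by norm_num⟩) fun g h => NT.ext (by rw [NT.mul_a, wa_zero]; simp) rfl

attribute [irreducible] m5 a5 wa nm

end CL.T10
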