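import Cfsg.Agent.SPOR.T10.ApiG
import Cfsg.Agent.SPOR.T10.ApiQ

/-!
Conjugates of `AB` meeting `TB` (finite checks; notes/t10/syl.py).
-/

set_option autoImplicit false
set_option maxRecDepth 100000

namespace CL.T10

open CL.K CL.CG CL.F2M CL.F24 CL.LX CL.MSS Subgroup Cfsg
open CL.J4P (Kv)

attribute [local irreducible] gcode vcode

namespace SylA

/-- table of the elements of `TB` -/
def TT : ℕ := 0x8a2db6fbe1860c304102203603e0060030018a2df7f7d1860c304102203703d0060030018e3df7efb1860c304102303703b0060030018e3db6e381860c30410230360380060030018e3df7bef1c708204102303702f0070020018e3db6b6d1c708204102303602d0070020018a2db6aaa1c708204102203602a0070020018a2df7a281c70820410220370280070020018a2df77df1c70c304102203701f0070030018a2db671c1c70c304102203601c0070030018e3db66db1c70c304102303601b0070030018e3df76181c70c30410230370180070030018e3db638e18608204102303600e0060020018e3df730c18608204102303700c0060020018a2df728a18608204102203700a0060020018a2db62081860820410220360080060020018a2514fbe1450c30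4102201403e0050030018a2555f7d1450c304102201503d0050030018e3514efb1450c304102301403b0050030018e3555e381450c30410230150380050030018e3514bef14508204102301402f0050020018e3555b6d14508204102301502d0050020018a2514aaa14508204102201402a0050020018a2555a281450820410220150280050020018a25557df1040c304102201501f0040030018a251471c1040c304102201401c0040030018e35556db1040c304102301501b0040030018e35146181040c30410230140180040030018e355538e10408204102301500e0040020018e351430c10408204102301400c0040020018a255528a10408204102201500a0040020018a2514208104082041022014008004002001861c30fbe1860c304102103003e006003001861c71f7d1860c304102103103d006003001820c71efb1860c304102003103b006003001820c30e381860c3041020030038006003001861c30bef1c708204102103002f007002001861c71b6d1c708204102103102d007002001820c71aaa1c708204102003102a007002001820c30a281c7082041020030028007002001861c307df1c70c304102103001f007003001861c7171c1c70c304102103101c007003001820c716db1c70c304102003101b007003001820c306181c70c3041020030018007003001861c30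38e18608204102103000e006002001861c7130c18608204102103100c006002001820c7128a18608204102003100a006002001820c30208186082041020030008006002001861451fbe1450c304102101103e005003001861410f7d1450c304102101003d005003001820451efb1450c304102001103b005003001820410e381450c3041020010038005003001861451bef14508204102101102f005002001861410b6d14508204102101002d005002001820451aaa14508204102001102a005002001820410a281450820410200100280050020018614517df1040c304102101101f00400300186141071c1040c304102101001c0040030018204516db1040c304102001101b0040030018204106181040c304102001001800400300186145138e10408204102101100e00400200186141030c10408204102101000c00400200182045128a10408204102001100a004002001820410208104082041020010008004002001880d80f801800c004002203603e006003001880dc0f401800c004002203703d0060030018c0dc0ec01800c004002303703b0060030018c0d80e001800c00400230360380060030018c0dc0bc01c008004002303702f0070020018c0d80b401c008004002303602d007002001880d80a801c008004002203602a007002001880dc0a001c008004002203702800700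2001880dc07c01c00c004002203701f007003001880d807001c00c004002203601c0070030018c0d806c01c00c004002303601b0070030018c0dc06001c00c00400230370180070030018c0d8038018008004002303600e0060020018c0dc030018008004002303700c006002001880dc028018008004002203700a006002001880d80200180080040022036008006002001880500f801400c004002201403e005003001880540f401400c004002201503d0050030018c0500ec01400c004002301403b0050030018c0540e001400c00400230150380050030018c0500bc014008004002301402f0050020018c0540b4014008004002301502d005002001880500a8014008004002201402a005002001880540a001400800400220150280050020018805407c01000c004002201501f0040030018805007001000c004002201401c0040030018c05406c01000c004002301501b0040030018c05006001000c00400230140180040030018c054038010008004002301500e0040020018c050030010008004002301400c00400200188054028010008004002201500a004002001880500200100080040022014008004002001840c00f801800c004002103003e006003001840c40f401800c004002103103d006003001800c40ec01800c004002003103b006003001800c00e001800c00400200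30038006003001840c00bc01c008004002103002f007002001840c40b401c008004002103102d007002001800c40a801c008004002003102a007002001800c00a001c0080040020030028007002001840c007c01c00c004002103001f007003001840c407001c00c004002103101c007003001800c406c01c00c004002003101b007003001800c006001c00c0040020030018007003001840c0038018008004002103000e006002001840c4030018008004002103100c006002001800c4028018008004002003100a006002001800c00200180080040020030008006002001840440f801400c004002101103e005003001840400f401400c004002101003d005003001800440ec01400c004002001103b005003001800400e001400c0040020010038005003001840440bc014008004002101102f005002001840400b4014008004002101002d005002001800440a8014008004002001102a005002001800400a001400800400200100280050020018404407c01000c004002101101f0040030018404007001000c004002101001c0040030018004406c01000c004002001101b0040030018004006001000c004002001001800400300184044038010008004002101100e00400200184040030010008004002101000c00400200180044028010008004002001100a004002001800400200100080040020010008004002001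
/-- entry of the table -/
def tb (m : ℕ) : ℕ := fld 144 0xffffffffffffffffffffffffffffffffffff TT m
/-- `(x + 1) v` -/
noncomputable def nv (x v : ℕ) : ℕ := force v fun v => Nat.xor (ac x v) v
/-- `(x + 1) (y + 1) = 0` -/
noncomputable def qd (x y : ℕ) : Bool := allLt (fun j => Nat.beq (nv x (nv y (Nat.pow 2 j))) 0) 12
/-- `[W, x] + [W, y]` lies in a coordinate subspace -/
noncomputable def inM (M x y : ℕ) : Bool :=
  allLt (fun j => Nat.beq (Nat.land (nv x (Nat.pow 2 j)) M) 0 && Nat.beq (Nat.land (nv y (Nat.pow 2 j)) M) 0) 12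
/-- images of six elements -/
def LS : List (ℕ × ℕ) := [(0x840400b4014008004002101002d005002001, 0x3000000003),
  (0x840440bc014008004002101102f005002001, 0xc000000003), (0x880d80200180080040022036008006002001, 0x5000000005),
  (0x880dc028018008004002203700a006002001, 0xa000000005), (0x8c0d80b401c008004002303602d007002001, 0x6000000009),
  (0x8c0dc0bc01c008004002303702f007002001, 0x9000000009)]
/-- lookup -/
noncomputable def sm (L : List (ℕ × ℕ)) (x : ℕ) : ℕ :=
  List.rec (motive := fun _ => ℕ) 0xffffffffffffffff (fun p _ ih => cond (Nat.beq x p.1) p.2 ih) L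
/-- the images of `x + 1`, `y + 1`, `x y + 1` meet trivially -/
noncomputable def ncc (x y : ℕ) : Bool :=
  Nat.beq (Nat.land (Nat.land (sm LS x) (sm LS y)) (force (mm x y) (sm LS))) 1
/-- common fixed vector -/
noncomputable def fx (x y v : ℕ) : Bool := force v fun v => Nat.beq (ac x v) v && Nat.beq (ac y v) v
/-- `t` stabilises `C(x, y)` -/
noncomputable def stb (x y t : ℕ) : Bool :=
  allLt (fun j => fx x y (ac t (nv x (Nat.pow 2 j))) && fx x y (ac t (nv y (Nat.pow 2 j)))) 12
/-- the four vectors of `W ⊗ e3` -/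
def w3 (v : ℕ) : Bool := Nat.beq v 0 || Nat.beq v 1 || Nat.beq v 64 || Nat.beq v 65
/-- unequal intersections -/
noncomputable def bad (M M' x y : ℕ) : Bool :=
  anyLt (fun u => Nat.beq (Nat.land u M') 0 && !w3 u && fx x y u) 64 && fx x y 1 && fx x y 64 && fx x y 65 &&
    allLt2 (fun v => !Nat.beq (Nat.land v M) 0 || w3 v || !fx x y v) 64 64
/-- loop over quadratic pairs -/
noncomputable def prs (p : ℕ → ℕ → Bool) : Bool :=
  allLt (fun m => force (tb m) fun x => Nat.beq x c1 || !qd x x || allLt (fun n => force (tb n) fun y =>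
    Nat.beq y c1 || Nat.beq y x || !qd x y || !qd y y || p x y) 128) 128

theorem chk_tb : allLt (fun m => Nat.beq (tT m) (tb m)) 128 = true := by decide +kernel

theorem chk_LS : lall (fun p : ℕ × ℕ => allLt2 (fun u => force (nv p.1 u) fun w =>
    Nat.beq (bit p.2 (Nat.land w 63)) 1 && Nat.beq (bit p.2 (Nat.shiftRight w 6)) 1) 64 64) LS = true := by
  decide +kernel

theorem chk_A : prs (fun x y => inM 0xe38 x y || inM 0x71c x y || force (mm x y) fun xy =>
    allLt (fun k => force (tb k) fun z => Nat.beq z c1 || Nat.beq z x || Nat.beq z y || Nat.beq z xy ||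
      !qd x z || !qd y z || !qd z z || ncc x y || ncc x z || ncc y z) 128) = true := by decide +kernel

theorem chk_B : prs (fun x y => (stb x y xS && stb x y x34 && stb x y x45 && stb x y a45) ||
    (!stb x y x45 && !stb x y a45 && !stb x y (mm x45 a45)) || bad 0xe38 0x71c x y ||
    bad 0x71c 0xe38 x y) = true := by decide +kernel

theorem chk_S : allLt (fun i => force (lget ApiG.LA i) fun a => allLt (fun j => force (lget ApiG.LA j) fun b =>
    qd a b && (Nat.beq a c1 || Nat.beq b c1 || Nat.beq a b || allLt (fun p => anyLt (fun u => anyLt (fun w =>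
      Nat.beq (Nat.xor (nv a (8 * u)) (nv b (8 * w))) p &&
      Nat.beq (Nat.xor (nv a (512 * u)) (nv b (512 * w))) (64 * p)) 8) 8) 8)) 8) 8 = true := by decide +kernel

theorem nv_eq (x v : ℕ) : nv x v = ac x v ^^^ v := by rw [nv, force_eq]; rfl

theorem nv_xor (x u v : ℕ) : nv x (u ^^^ v) = nv x u ^^^ nv x v := by
  simp only [nv_eq, ac_xor', J4P.xor4]

theorem nv_zero (x : ℕ) : nv x 0 = 0 := by rw [nv_eq, ac_zero]; rfl

theorem nv_lt (x : ℕ) {v : ℕ} (hv : v < 4096) : nv x v < 4096 := by
  rw [nv_eq]; exact xor12_lt (by rw [ac_def]; exact ok12.act_lt x v) hv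

theorem sv_zero (g : GL12) : sv g 0 = 0 := ac_zero _

theorem sv_inv (g : GL12) {v : ℕ} (hv : v < 4096) : sv g (sv g⁻¹ v) = v := by
  rw [← sv_mul _ _ hv, mul_inv_cancel, sv_one hv]

theorem inv_sv (g : GL12) {v : ℕ} (hv : v < 4096) : sv g⁻¹ (sv g v) = v := by
  rw [← sv_mul _ _ hv, inv_mul_cancel, sv_one hv]

theorem sv_cj (g a : GL12) {v : ℕ} (hv : v < 4096) : sv (g * a * g⁻¹) (sv g v) = sv g (sv a v) := by
  rw [← sv_mul _ _ hv, inv_mul_cancel_right, sv_mul _ _ hv]

theorem nv_cj (g a : GL12) {v : ℕ} (hv : v < 4096) :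
    nv (gcode (g * a * g⁻¹)) (sv g v) = sv g (nv (gcode a) v) := by
  rw [nv_eq, nv_eq, sv_xor _ (sv_lt _ _) hv, ← sv_cj _ _ hv]

theorem ind {p : ℕ → Prop} (h0 : p 0) (hb : ∀ i < 12, p (2 ^ i)) (hx : ∀ a b, p a → p b → p (a ^^^ b)) :
    ∀ a < 4096, p a := bits_ind (n := 12) h0 hb fun a _ b _ => hx a b

theorem qd_iff {x y : ℕ} : qd x y = true ↔ ∀ v < 4096, nv x (nv y v) = 0 := by
  simp only [qd, allLt_iff, Nat.beq_eq]
  exact ⟨fun h => ind (by rw [nv_zero, nv_zero]) h fun a b i j => by rw [nv_xor, nv_xor, i, j]; rfl,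
    fun h j hj => h _ (pow12_lt hj)⟩

theorem tabS {a b : GL12} (ha : a ∈ AB) (hb : b ∈ AB) : qd (gcode a) (gcode b) = true ∧
    (a ≠ 1 → b ≠ 1 → a ≠ b → ∀ v < 4096, v &&& 0xe38 = 0 → ∃ u < 4096, ∃ w < 4096,
      v = nv (gcode a) u ^^^ nv (gcode b) w) := by
  obtain ⟨i, hi, e⟩ := ApiG.compl_A a ha
  obtain ⟨j, hj, e'⟩ := ApiG.compl_A b hb
  have := allLt_iff.1 chk_S i hi
  rw [force_eq] at this
  have := allLt_iff.1 this j hj
  rw [force_eq, ← e, ← e', Bool.and_eq_true] at this
  refine ⟨this.1, fun h1 h2 h3 v hv h0 => ?_⟩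
  have k := this.2
  rw [← C12.map_one, ApiG.beq_false (C12.inj.ne h1), ApiG.beq_false (C12.inj.ne h2),
    ApiG.beq_false (C12.inj.ne h3)] at k
  simp only [Bool.false_or, allLt_iff, anyLt_iff, Bool.and_eq_true, Nat.beq_eq] at k
  have t : allLt2 (fun v => !Nat.beq (Nat.land v 0xe38) 0 || (blt (v >>> 6) 8 &&
      Nat.beq (Nat.xor (Nat.land v 7) (64 * (v >>> 6))) v)) 64 64 = true := by decide +kernel
  have t := allLt2_iff.1 t v hv
  rw [show Nat.land v 0xe38 = 0 from h0] at t
  simp only [Nat.beq_refl, Bool.not_true, Bool.false_or, Bool.and_eq_true, Nat.beq_eq] at t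
  obtain ⟨u, hu, w, hw, e1, -⟩ := k (Nat.land v 7) (Nat.lt_succ_of_le Nat.and_le_right)
  obtain ⟨u', hu', w', hw', -, e2⟩ := k _ (lt_of_blt t.1)
  refine ⟨8 * u ^^^ 512 * u', xor12_lt (by omega) (by omega), 8 * w ^^^ 512 * w', xor12_lt (by omega) (by omega), ?_⟩
  rw [nv_xor, nv_xor, J4P.xor4, ← t.2]
  exact (congrArg₂ Nat.xor e1 e2).symm

theorem qd_cj (g : GL12) {a b : GL12} (ha : a ∈ AB) (hb : b ∈ AB) :
    qd (gcode (g * a * g⁻¹)) (gcode (g * b * g⁻¹)) = true := qd_iff.2 fun v hv => by
  rw [← sv_inv g hv, nv_cj _ _ (sv_lt _ _), nv_cj _ _ (nv_lt _ (sv_lt _ _)),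
    qd_iff.1 (tabS ha hb).1 _ (sv_lt _ _), sv_zero]

theorem ne_cj (g : GL12) {a b : GL12} (h : a ≠ b) :
    Nat.beq (gcode (g * a * g⁻¹)) (gcode (g * b * g⁻¹)) = false :=
  ApiG.beq_false (C12.inj.ne (by simpa using h))

theorem ne_one_cj (g : GL12) {a : GL12} (h : a ≠ 1) : Nat.beq (gcode (g * a * g⁻¹)) c1 = false :=
  ApiG.beq_false (C12.map_one ▸ C12.inj.ne (by simpa using h))

theorem all_tb {p : ℕ → Bool} (h : allLt (fun m => force (tb m) p) 128 = true) {x : GL12} (hx : x ∈ TB) :
    p (gcode x) = true := by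
  obtain ⟨m, hm, e⟩ := (mem_TB x).1 hx
  have := allLt_iff.1 h m hm
  rwa [force_eq, ← eq_of_beq (allLt_iff.1 chk_tb m hm), ← e] at this

theorem of_prs {p : ℕ → ℕ → Bool} (h : prs p = true) {g a b : GL12} (ha : a ∈ AB) (hb : b ∈ AB) (h1 : a ≠ 1)
    (h2 : b ≠ 1) (h3 : a ≠ b) (ha' : g * a * g⁻¹ ∈ TB) (hb' : g * b * g⁻¹ ∈ TB) :
    p (gcode (g * a * g⁻¹)) (gcode (g * b * g⁻¹)) = true := by
  have k := all_tb h ha'
  rw [ne_one_cj g h1, qd_cj g ha ha, Bool.not_true, Bool.false_or, Bool.false_or] at k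
  have k := all_tb k hb'
  simpa only [ne_one_cj g h2, ne_cj g h3.symm, qd_cj g ha hb, qd_cj g hb hb, Bool.not_true, Bool.false_or] using k

theorem of_inM {M : ℕ} {g a b : GL12} (ha : a ∈ AB) (hb : b ∈ AB) (h1 : a ≠ 1) (h2 : b ≠ 1) (h3 : a ≠ b)
    (h : inM M (gcode (g * a * g⁻¹)) (gcode (g * b * g⁻¹)) = true) :
    ∀ v < 4096, v &&& 0xe38 = 0 → sv g v &&& M = 0 := fun v hv h0 => by
  simp only [inM, allLt_iff, Bool.and_eq_true, Nat.beq_eq] at h
  have k : ∀ x, (∀ j < 12, nv x (2 ^ j) &&& M = 0) → ∀ u < 4096, nv x u &&& M = 0 := fun x e =>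
    ind (by rw [nv_zero, Nat.zero_and]) e fun a b i j => by rw [nv_xor, Nat.and_xor_distrib_right, i, j]; rfl
  obtain ⟨u, hu, w, hw, rfl⟩ := (tabS ha hb).2 h1 h2 h3 v hv h0
  rw [sv_xor _ (nv_lt _ hu) (nv_lt _ hw), ← nv_cj _ _ hu, ← nv_cj _ _ hw, Nat.and_xor_distrib_right,
    k _ (fun j hj => (h j hj).1) _ (sv_lt _ _), k _ (fun j hj => (h j hj).2) _ (sv_lt _ _)]
  rfl

theorem sm_spec (x : ℕ) {u : ℕ} (hu : u < 4096) :
    bit (sm LS x) (nv x u &&& 63) = 1 ∧ bit (sm LS x) (nv x u >>> 6) = 1 := by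
  have h := lall_iff.1 chk_LS
  generalize LS = L at h
  induction L with
  | nil =>
    have t : ∀ i < 64, bit 0xffffffffffffffff i = 1 := by decide +kernel
    have := nv_lt x hu
    exact ⟨t _ (Nat.lt_succ_of_le Nat.and_le_right), t _ (by rw [Nat.shiftRight_eq_div_pow]; omega)⟩
  | cons p L ih =>
    change bit (cond (Nat.beq x p.1) p.2 (sm L x)) _ = 1 ∧ bit (cond (Nat.beq x p.1) p.2 (sm L x)) _ = 1
    by_cases e : x = p.1
    · have := allLt2_iff.1 (h p (by simp)) u hu
      rw [force_eq, Bool.and_eq_true] at this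
      rw [e, Nat.beq_refl]
      exact ⟨eq_of_beq this.1, eq_of_beq this.2⟩
    · rw [ApiG.beq_false e]
      exact ih fun q hq => h q (List.mem_cons_of_mem _ hq)

theorem ncc_false (g : GL12) {a b : GL12} {p u v w : ℕ} (hp : p < 4096) (h0 : p ≠ 0) (hu : u < 4096) (hv : v < 4096)
    (hw : w < 4096) (e1 : nv (gcode a) u = p) (e2 : nv (gcode b) v = p) (e3 : nv (mm (gcode a) (gcode b)) w = p) :
    ncc (gcode (g * a * g⁻¹)) (gcode (g * b * g⁻¹)) = false := by
  refine ApiG.beq_false fun e => h0 ?_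
  rw [C12.map_mul] at e3
  rw [force_eq, C12.map_mul, conj_mul] at e
  have k1 := sm_spec (gcode (g * a * g⁻¹)) (sv_lt g u)
  have k2 := sm_spec (gcode (g * b * g⁻¹)) (sv_lt g v)
  have k3 := sm_spec (gcode (g * (a * b) * g⁻¹)) (sv_lt g w)
  rw [nv_cj _ _ hu, e1] at k1
  rw [nv_cj _ _ hv, e2] at k2
  rw [nv_cj _ _ hw, e3] at k3
  have k : ∀ {x y z i : ℕ}, Nat.land (Nat.land x y) z = 1 → bit x i = 1 → bit y i = 1 → bit z i = 1 → i = 0 := by
    intro x y z i e a b c
    simp only [bit_eq, ite_eq_left_iff, Bool.not_eq_true, zero_ne_one, imp_false, Bool.not_eq_false] at a b c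
    have : (x &&& y &&& z).testBit i = true := by simp [a, b, c]
    rw [show x &&& y &&& z = 1 from e] at this
    exact Nat.testBit_one_eq_true_iff_self_eq_zero.1 this
  have f1 := k e k1.1 k2.1 k3.1
  have f2 := k e k1.2 k2.2 k3.2
  rw [show 63 = 2 ^ 6 - 1 from rfl, Nat.and_two_pow_sub_one_eq_mod] at f1
  rw [Nat.shiftRight_eq_div_pow] at f2
  rw [← inv_sv g hp, show sv g p = 0 by omega, sv_zero]

theorem fx_iff {x y v : ℕ} : fx x y v = true ↔ ac x v = v ∧ ac y v = v := by
  simp only [fx, force_eq, Bool.and_eq_true, Nat.beq_eq]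

theorem fx_xor {x y u v : ℕ} (a : fx x y u = true) (b : fx x y v = true) : fx x y (u ^^^ v) = true := by
  rw [fx_iff] at a b ⊢
  rw [ac_xor', ac_xor', a.1, a.2, b.1, b.2]
  exact ⟨rfl, rfl⟩

section
variable {g a b : GL12} (ha : a ∈ AB) (hb : b ∈ AB) (h1 : a ≠ 1) (h2 : b ≠ 1) (h3 : a ≠ b)
include ha hb h1 h2 h3

theorem fx_cj {v : ℕ} (hv : v < 4096) :
    fx (gcode (g * a * g⁻¹)) (gcode (g * b * g⁻¹)) (sv g v) = true ↔ v &&& 0xe38 = 0 := by
  rw [fx_iff, ← fix_AB ha hb h1 h2 h3 hv]
  change sv _ _ = _ ∧ sv _ _ = _ ↔ _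
  rw [sv_cj _ _ hv, sv_cj _ _ hv]
  refine ⟨fun h => ⟨?_, ?_⟩, fun h => by rw [h.1, h.2]; exact ⟨rfl, rfl⟩⟩
  · rw [← inv_sv g (sv_lt a v), h.1, inv_sv g hv]
  · rw [← inv_sv g (sv_lt b v), h.2, inv_sv g hv]

theorem P2_fx {t : GL12} : P2 (g⁻¹ * t * g) ↔ ∀ u < 4096, fx (gcode (g * a * g⁻¹)) (gcode (g * b * g⁻¹)) u = true →
    fx (gcode (g * a * g⁻¹)) (gcode (g * b * g⁻¹)) (sv t u) = true := by
  refine ⟨fun h u hu e => ?_, fun h v hv e => ?_⟩
  · rw [← sv_inv g hu, fx_cj ha hb h1 h2 h3 (sv_lt _ _)] at e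
    have := h _ (sv_lt _ _) e
    rwa [← fx_cj (g := g) ha hb h1 h2 h3 (sv_lt _ _), sv_mul _ _ (sv_lt _ _), sv_inv _ hu, sv_mul _ _ hu,
      sv_inv _ (sv_lt _ _)] at this
  · rw [← fx_cj (g := g) ha hb h1 h2 h3 (sv_lt _ _), sv_mul _ _ hv, sv_mul _ _ (sv_lt _ _), sv_inv _ (sv_lt _ _)]
    exact h _ (sv_lt _ _) ((fx_cj ha hb h1 h2 h3 hv).2 e)

theorem P2_stb {t : GL12} :
    P2 (g⁻¹ * t * g) ↔ stb (gcode (g * a * g⁻¹)) (gcode (g * b * g⁻¹)) (gcode t) = true := by
  simp only [P2_fx ha hb h1 h2 h3, stb, allLt_iff, Bool.and_eq_true]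
  have z : ∀ {x v}, nv x v = 0 → ac x v = v := fun e => Nat.xor_eq_zero_iff.1 (by rwa [nv_eq] at e)
  refine ⟨fun h j hj => ⟨h _ (nv_lt _ (pow12_lt hj)) (fx_iff.2 ⟨z ?_, z ?_⟩),
    h _ (nv_lt _ (pow12_lt hj)) (fx_iff.2 ⟨z ?_, z ?_⟩)⟩, fun h u hu e => ?_⟩
  · exact qd_iff.1 (qd_cj g ha ha) _ (pow12_lt hj)
  · exact qd_iff.1 (qd_cj g hb ha) _ (pow12_lt hj)
  · exact qd_iff.1 (qd_cj g ha hb) _ (pow12_lt hj)
  · exact qd_iff.1 (qd_cj g hb hb) _ (pow12_lt hj)
  have k : ∀ x y z, (∀ j < 12, fx x y (ac (gcode t) (nv z (2 ^ j))) = true) →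
      ∀ u < 4096, fx x y (ac (gcode t) (nv z u)) = true := fun x y z e =>
    ind (by rw [nv_zero, ac_zero, fx_iff, ac_zero, ac_zero]; exact ⟨rfl, rfl⟩) e fun a b i j => by
      rw [nv_xor, ac_xor']; exact fx_xor i j
  rw [← sv_inv g hu, fx_cj ha hb h1 h2 h3 (sv_lt _ _)] at e
  obtain ⟨p, hp, q, hq, e'⟩ := (tabS ha hb).2 h1 h2 h3 _ (sv_lt _ _) e
  rw [← sv_inv g hu, e', sv_xor _ (nv_lt _ hp) (nv_lt _ hq), ← nv_cj _ _ hp, ← nv_cj _ _ hq, sv, ac_xor']
  exact fx_xor (k _ _ _ (fun j hj => (h j hj).1) _ (sv_lt _ _)) (k _ _ _ (fun j hj => (h j hj).2) _ (sv_lt _ _))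

end

theorem bad_false {M M' x y : ℕ} {k : GL12} (hM : ∀ v ∈ [0, 1, 64, 65], v &&& M' = 0)
    (hk : ∀ v < 4096, v &&& M' = 0 → sv k v &&& M = 0)
    (hf : ∀ u < 4096, fx x y u = true → fx x y (sv k u) = true) : bad M M' x y = false := by
  rw [← Bool.not_eq_true]
  simp only [bad, Bool.and_eq_true, anyLt_iff, allLt2_iff, Nat.beq_eq]
  rintro ⟨⟨⟨⟨⟨u, hu, ⟨u1, u2⟩, u3⟩, f1⟩, f2⟩, f3⟩, h⟩
  have w : ∀ v < 4096, v &&& M' = 0 → fx x y v = true → sv k v = 0 ∨ sv k v = 1 ∨ sv k v = 64 ∨ sv k v = 65 :=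
    fun v hv a b => by
      have := h _ (sv_lt k v)
      rw [show Nat.land (sv k v) M = 0 from hk v hv a, hf v hv b] at this
      simpa [w3, or_assoc] using this
  have i : ∀ {p q}, p < 4096 → q < 4096 → p ≠ q → sv k p ≠ sv k q := fun a b c e =>
    c (by rw [← inv_sv k a, e, inv_sv k b])
  have u2 : u ≠ 0 ∧ u ≠ 1 := by
    constructor <;> rintro rfl <;> exact absurd u2 (by decide)
  have w1 := w 1 (by norm_num) (hM _ (by simp)) f1
  have w2 := w 64 (by norm_num) (hM _ (by simp)) f2
  have w3 := w 65 (by norm_num) (hM _ (by simp)) f3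
  have w4 := w u (by omega) u1 u3
  have z := sv_zero k
  have := i (p := 0) (q := 1) (by norm_num) (by norm_num) (by norm_num)
  have := i (p := 0) (q := 64) (by norm_num) (by norm_num) (by norm_num)
  have := i (p := 0) (q := 65) (by norm_num) (by norm_num) (by norm_num)
  have := i (p := 1) (q := 64) (by norm_num) (by norm_num) (by norm_num)
  have := i (p := 1) (q := 65) (by norm_num) (by norm_num) (by norm_num)
  have := i (p := 64) (q := 65) (by norm_num) (by norm_num) (by norm_num)
  have := i (p := u) (q := 0) (by omega) (by norm_num) (by omega)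
  have := i (p := u) (q := 1) (by omega) (by norm_num) (by omega)
  have := i (p := u) (q := 64) (by omega) (by norm_num) (by omega)
  have := i (p := u) (q := 65) (by omega) (by norm_num) (by omega)
  omega

end SylA

open SylA in
/-- PROOF. For `a ≠ b` non-trivial in `AB` the pair `(a, b)` has these properties, invariant under
conjugation in `GL12`: `a² = b² = 1`, `a b = b a`, `(a + 1)(b + 1) = 0`, `a, b, a b` fix 256 vectors, they fix
64 common vectors, and `C(a b) ≤ C(a) + C(b)`. Run over triples of `tT m`: the only subgroups of order 8 of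
`TB` all of whose pairs are of this kind are `AB` and `⟨a34, x35, x45⟩`, with fixed spaces
`v &&& 0xe38 = 0`, `v &&& 0x71c = 0`; use `fix_AB`. The last property only has to kill
`⟨(12)(34), (12)(56), (12)(78)⟩` (give one vector of `C(a b)` outside `C(a) + C(b)`). -/
theorem pairA {g : GL12} (h : ∀ a ∈ AB, g * a * g⁻¹ ∈ TB) :
    P2 g ∨ ∀ v < 4096, v &&& 0xe38 = 0 → sv g v &&& 0x71c = 0 := by
  have m := ApiG.gen_mem (L := gB) (by decide)
  obtain ⟨a, ha, ea⟩ := m a34 (by decide)
  obtain ⟨b, hb, eb⟩ := m a35 (by decide)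
  obtain ⟨c, hc, ec⟩ := m a45 (by decide)
  have n : ∀ {x y : GL12} {p q : ℕ}, gcode x = p → gcode y = q → p ≠ q → x ≠ y := fun e e' i j =>
    i (by rw [← e, ← e', j])
  have a1 := n ea C12.map_one (by decide)
  have b1 := n eb C12.map_one (by decide)
  have ab := n ea eb (by decide)
  have k := of_prs chk_A ha hb a1 b1 ab (h a ha) (h b hb)
  simp only [Bool.or_eq_true] at k
  rcases k with (k | k) | k
  · exact .inl (of_inM ha hb a1 b1 ab k)
  · exact .inr (of_inM ha hb a1 b1 ab k)
  rw [force_eq] at k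
  have k := all_tb k (h c hc)
  rw [ne_one_cj g (n ec C12.map_one (by decide)), ne_cj g (n ec ea (by decide)), ne_cj g (n ec eb (by decide)),
    C12.map_mul, conj_mul, ne_cj g (n ec ((C12.map_mul a b).symm.trans (by rw [ea, eb])) (by decide +kernel)),
    qd_cj g ha hc, qd_cj g hb hc, qd_cj g hc hc,
    ncc_false g (p := 1) (u := 16) (v := 32) (w := 16) (by norm_num) (by norm_num) (by norm_num) (by norm_num)
      (by norm_num) (by rw [ea]; decide +kernel) (by rw [eb]; decide +kernel) (by rw [ea, eb]; decide +kernel),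
    ncc_false g (p := 2) (u := 8) (v := 32) (w := 8) (by norm_num) (by norm_num) (by norm_num) (by norm_num)
      (by norm_num) (by rw [ea]; decide +kernel) (by rw [ec]; decide +kernel) (by rw [ea, ec]; decide +kernel),
    ncc_false g (p := 4) (u := 8) (v := 16) (w := 8) (by norm_num) (by norm_num) (by norm_num) (by norm_num)
      (by norm_num) (by rw [eb]; decide +kernel) (by rw [ec]; decide +kernel) (by rw [eb, ec]; decide +kernel)] at k
  exact absurd k (by decide)

open SylA in
/-- PROOF. `X = g Ā2 = C(g a g⁻¹, g b g⁻¹)`. `k` normalises `X` and swaps `Ā2`, `Ā2'`, so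
`|X ⊓ Ā2| = |X ⊓ Ā2'|`. For pairs in `TB` with the properties above the triple (`|X ⊓ Ā2|`, `|X ⊓ Ā2'|`,
order of the stabiliser of `X` in `TB`) is (64,16,128), (16,64,128), (16,16,128), (4,16,64), (16,4,64) or
(4,4,32); the last contradicts `hi`. -/
theorem pairB {g a b k : GL12} (ha : a ∈ AB) (hb : b ∈ AB) (h1 : a ≠ 1) (h2 : b ≠ 1) (h3 : a ≠ b)
    (ha' : g * a * g⁻¹ ∈ TB) (hb' : g * b * g⁻¹ ∈ TB) (hk : Swp k) (hkX : P2 (g⁻¹ * k * g))
    (hi : ∀ t ∈ TB, ∀ t' ∈ TB, P2 (g⁻¹ * t * g) ∨ P2 (g⁻¹ * t' * g) ∨ P2 (g⁻¹ * (t * t') * g)) :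
    ∀ t ∈ TB, P2 (g⁻¹ * t * g) := by
  have k := of_prs chk_B ha hb h1 h2 h3 ha' hb'
  have f := (P2_fx ha hb h1 h2 h3).1 hkX
  rw [bad_false (by decide) (fun v hv => (hk v hv).2) f, bad_false (by decide) (fun v hv => (hk v hv).1) f] at k
  simp only [Bool.or_false, Bool.or_eq_true, Bool.and_eq_true, Bool.not_eq_true'] at k
  rcases k with ⟨⟨⟨k1, k2⟩, k3⟩, k4⟩ | ⟨⟨k1, k2⟩, k3⟩
  · refine ApiG.gen_ind (Q := fun t => P2 (g⁻¹ * t * g)) (fun v hv e => ?_) (fun s t i j => ?_) fun c hc s e => ?_
    · rwa [mul_one, inv_mul_cancel, sv_one hv]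
    · rw [show g⁻¹ * (s * t) * g = g⁻¹ * s * g * (g⁻¹ * t * g) by group]
      exact i.mul j
    · rw [P2_stb ha hb h1 h2 h3, e]
      simp only [gT, List.mem_cons, List.not_mem_nil, or_false] at hc
      rcases hc with rfl | rfl | rfl | rfl <;> assumption
  · obtain ⟨s, hs, es⟩ := ApiG.gT_mem x45 (by decide)
    obtain ⟨t, ht, et⟩ := ApiG.gT_mem a45 (by decide)
    have := hi s hs t ht
    rw [P2_stb ha hb h1 h2 h3, P2_stb ha hb h1 h2 h3, P2_stb ha hb h1 h2 h3, ← C12.map_mul s t, es, et, k1, k2,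
      k3] at this
    simp at this

end CL.T10
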